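import Mathlib.GroupTheory.Transfer
import Mathlib.GroupTheory.Sylow

/-!
An index-two criterion: a central involution of a Sylow 2-subgroup on which a linear character is
nontrivial, stably under the Sylow normalizer.
-/

open MulAction

namespace Cfsg.Agent.LocalEven

theorem exists_index_two_of_central {G : Type*} [Group G] [Finite G] (S : Sylow 2 G)
    (χ : ↥(S : Subgroup G) →* Multiplicative (ZMod 2)) {z : G} (hzS : z ∈ (S : Subgroup G))
    (hz2 : z * z = 1) (hzc : ∀ s ∈ (S : Subgroup G), s * z = z * s)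
    (hN : ∀ g ∈ Subgroup.normalizer ((S : Subgroup G) : Set G),
      ∀ h : g⁻¹ * z * g ∈ (S : Subgroup G), χ ⟨g⁻¹ * z * g, h⟩ ≠ 1) :
    ∃ H : Subgroup G, H.index = 2 := by
  classical
  have : (S : Subgroup G).FiniteIndex := Subgroup.finiteIndex_of_finite_quotient
  let T : (S : Subgroup G).LeftTransversal := default
  let := (S : Subgroup G).fintypeQuotientOfFiniteIndex
  set α := T.2.leftQuotientEquiv with hα
  have hrep : ∀ q : G ⧸ (S : Subgroup G), ((α q : G) : G ⧸ (S : Subgroup G)) = q := fun q => α.symm_apply_apply q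
  have hzinv : z⁻¹ = z := inv_eq_of_mul_eq_one_right hz2
  have hmem : ∀ q : G ⧸ (S : Subgroup G), (α q : G)⁻¹ * (z * (α (z • q) : G)) ∈ (S : Subgroup G) := by
    intro q
    rw [← QuotientGroup.eq, hrep, ← smul_eq_mul, ← MulAction.Quotient.smul_coe, hrep, ← mul_smul,
      hz2, one_smul]
  set f : G ⧸ (S : Subgroup G) → Multiplicative (ZMod 2) := fun q => χ ⟨_, hmem q⟩ with hf
  have htr : MonoidHom.transfer χ z = ∏ q : G ⧸ (S : Subgroup G), f q := by
    rw [MonoidHom.transfer_def χ T z]
    refine Finset.prod_congr rfl fun q _ => ?_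
    simp only [hf]
    congr 2
    rw [Subgroup.smul_apply_eq_smul_apply_inv_smul, hzinv, smul_eq_mul]
  have hpair : ∀ q : G ⧸ (S : Subgroup G), f q * f (z • q) = 1 := by
    intro q
    simp only [hf]
    rw [← map_mul]
    convert map_one χ
    apply Subtype.ext
    simp only [Subgroup.coe_mul, ← mul_smul, hz2, one_smul, Subgroup.coe_one]
    calc _ = (α q : G)⁻¹ * (z * ((α (z • q) : G) * (α (z • q) : G)⁻¹) * z) * (α q : G) := by group
      _ = 1 := by simp [hz2]
  -- the contribution of a fixed coset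
  have hfix : ∀ g : G, z • (g : G ⧸ (S : Subgroup G)) = g → ∀ h : g⁻¹ * z * g ∈ (S : Subgroup G),
      f (g : G ⧸ (S : Subgroup G)) = χ ⟨g⁻¹ * z * g, h⟩ := by
    intro g hq h
    obtain ⟨s, hs, hsg⟩ : ∃ s ∈ (S : Subgroup G), (α (g : G ⧸ (S : Subgroup G)) : G) = g * s :=
      ⟨g⁻¹ * α (g : G ⧸ (S : Subgroup G)), QuotientGroup.eq.1 (hrep g).symm, by group⟩
    simp only [hf, hq]
    have e : (⟨(α (g : G ⧸ (S : Subgroup G)) : G)⁻¹ * (z * (α (g : G ⧸ (S : Subgroup G)) : G)), by simpa [hq] using hmem g⟩ : (S : Subgroup G)) =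
        ⟨s, hs⟩⁻¹ * ⟨g⁻¹ * z * g, h⟩ * ⟨s, hs⟩ := by
      apply Subtype.ext
      simp only [Subgroup.coe_mul, Subgroup.coe_inv, hsg]
      group
    rw [e, map_mul, map_mul, map_inv, mul_comm, mul_inv_cancel_left]
  -- the cosets contributing
  set A : Finset (G ⧸ (S : Subgroup G)) := Finset.univ.filter fun q => z • q = q ∧ f q ≠ 1 with hA
  have hprod : ∏ q : G ⧸ (S : Subgroup G), f q = ∏ q ∈ A, f q := by
    rw [hA, ← Finset.filter_filter, Finset.prod_filter_ne_one,
      ← Finset.prod_filter_mul_prod_filter_not Finset.univ (fun q => z • q = q)]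
    refine mul_eq_left.2 (Finset.prod_involution (fun q _ => z • q) (fun q _ => hpair q)
      (fun q hq _ => (Finset.mem_filter.1 hq).2) (fun q hq => ?_) fun q _ => ?_)
    · refine Finset.mem_filter.2 ⟨Finset.mem_univ _, fun h => (Finset.mem_filter.1 hq).2 ?_⟩
      rw [← mul_smul, hz2, one_smul] at h
      exact h.symm
    · rw [← mul_smul, hz2, one_smul]
  have hval : ∀ x : Multiplicative (ZMod 2), x ≠ 1 → x = Multiplicative.ofAdd 1 := by decide
  rw [hprod, Finset.prod_congr rfl fun q hq => hval _ (Finset.mem_filter.1 hq).2.2,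
    Finset.prod_const] at htr
  -- `A` is stable under `S` and contains all `S`-fixed cosets
  have hAmem : ∀ g : G, (g : G ⧸ (S : Subgroup G)) ∈ A ↔
      ∃ h : g⁻¹ * z * g ∈ (S : Subgroup G), χ ⟨g⁻¹ * z * g, h⟩ ≠ 1 := by
    intro g
    have hiff : z • (g : G ⧸ (S : Subgroup G)) = g ↔ g⁻¹ * z * g ∈ (S : Subgroup G) := by
      rw [MulAction.Quotient.smul_coe, smul_eq_mul, eq_comm, QuotientGroup.eq, mul_assoc]
    simp only [hA, Finset.mem_filter, Finset.mem_univ, true_and, hiff]
    constructor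
    · rintro ⟨h, hne⟩
      exact ⟨h, by rwa [← hfix g (hiff.2 h) h]⟩
    · rintro ⟨h, hne⟩
      exact ⟨h, by rwa [hfix g (hiff.2 h) h]⟩
  let B : SubMulAction (S : Subgroup G) (G ⧸ (S : Subgroup G)) :=
    { carrier := (A : Set (G ⧸ (S : Subgroup G)))
      smul_mem' := by
        intro s q hq
        induction q using QuotientGroup.induction_on with
        | H g =>
          obtain ⟨h, hne⟩ := (hAmem g).1 hq
          change ((((s : G) * g : G) : G ⧸ (S : Subgroup G))) ∈ A
          have e : ((s : G) * g)⁻¹ * z * ((s : G) * g) = g⁻¹ * z * g := by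
            have := hzc s s.2
            calc _ = g⁻¹ * ((s : G)⁻¹ * (z * s)) * g := by group
              _ = _ := by rw [← this]; group
          exact (hAmem _).2 ⟨by rwa [e], by simpa only [e] using hne⟩ }
  have hmod := S.2.card_modEq_card_fixedPoints B
  have e1 : Nat.card B = A.card := Nat.card_eq_finsetCard A
  have e2 : Nat.card (fixedPoints (S : Subgroup G) B) = Nat.card (fixedPoints (S : Subgroup G) (G ⧸ (S : Subgroup G))) := by
    refine Nat.card_congr
      { toFun := fun q => ⟨q.1.1, fun s => congrArg Subtype.val (q.2 s)⟩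
        invFun := fun q => ⟨⟨q.1, ?_⟩, fun s => Subtype.ext (q.2 s)⟩
        left_inv := fun q => rfl
        right_inv := fun q => rfl }
    obtain ⟨q, hq⟩ := q
    induction q using QuotientGroup.induction_on with
    | H g =>
      have hg := Sylow.mem_fixedPoints_mul_left_cosets_iff_mem_normalizer.1 hq
      have hzg : g⁻¹ * z * g ∈ (S : Subgroup G) := by
        simpa using (Subgroup.mem_normalizer_iff.1 (inv_mem hg) z).1 hzS
      exact (hAmem g).2 ⟨hzg, hN g hg hzg⟩
  have hodd : A.card % 2 = 1 := by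
    have h1 := hmod
    rw [e1, e2] at h1
    have h2 : Nat.card (G ⧸ (S : Subgroup G)) ≡ Nat.card (fixedPoints (S : Subgroup G) (G ⧸ (S : Subgroup G))) [MOD 2] :=
      S.2.card_modEq_card_fixedPoints (G ⧸ (S : Subgroup G))
    have h3 : ¬ 2 ∣ Nat.card (G ⧸ (S : Subgroup G)) := S.not_dvd_index
    unfold Nat.ModEq at h1 h2
    omega
  have hne : MonoidHom.transfer χ z ≠ 1 := by
    rw [htr]
    intro h
    have := congrArg Multiplicative.toAdd h
    simp only [toAdd_pow, toAdd_ofAdd, toAdd_one, nsmul_one] at this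
    rw [← ZMod.natCast_mod, hodd] at this
    simp at this
  refine ⟨(MonoidHom.transfer χ).ker, ?_⟩
  rw [Subgroup.index_ker]
  have h1 : (MonoidHom.transfer χ).range ≠ ⊥ := fun h => hne (Subgroup.mem_bot.1 (h ▸ ⟨z, rfl⟩))
  have h2 : (MonoidHom.transfer χ).range = ⊤ := by
    rw [Subgroup.eq_top_iff']
    intro x
    by_cases hx : x = 1
    · exact hx ▸ one_mem _
    · exact ⟨z, (hval _ hne).trans (hval _ hx).symm⟩
  rw [h2, Subgroup.card_top]
  simp [Nat.card_eq_fintype_card, Fintype.card_multiplicative, ZMod.card]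

end Cfsg.Agent.LocalEven
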