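import Cfsg.Agent.FusionAlperin.NormalCriteria
import Cfsg.Agent.FusionAlperin.Normal

/-!
A saturated fusion system on a `2`-group `S` in which every element is conjugate into `Z(S)`
lives on an abelian group.

The point is that no element of order at least four is conjugate in `S` to its inverse; this makes
the involutions a central subgroup and makes an automorphism of odd order trivial as soon as it
fixes the involutions, so that there are no essential subgroups.
-/

set_option autoImplicit false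

open Cfsg Cfsg.FusionSystem
open scoped Pointwise
open Cfsg.Agent.FusionSys Cfsg.Agent.FusionAlperin

namespace Cfsg.Agent.LocalEven.CentralTwo

/-- In a finite `2`-group without real elements of order at least `4`, an automorphism of odd order
fixing the involutions is trivial. -/
theorem eq_of_fix_involutions {P : Type*} [Group P] [Finite P] (hP : IsPGroup 2 P)
    (hnr : ∀ x s : P, s * x * s⁻¹ = x⁻¹ → x * x = 1) (α : MulAut P) {m : ℕ} (hm : Odd m)
    (hα : α ^ m = 1) (hfix : ∀ x : P, x * x = 1 → α x = x) : α = 1 := by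
  suffices h : ∀ n : ℕ, ∀ x : P, orderOf x ≤ n → α x = x from
    MulEquiv.ext fun x => h _ x le_rfl
  intro n
  induction n with
  | zero =>
    intro x hx
    exact absurd (orderOf_pos x) (by omega)
  | succ n ih =>
    intro x hx
    by_cases hx2 : x * x = 1
    · exact hfix x hx2
    have hdvd : 2 ∣ orderOf x := by
      obtain ⟨k, hk⟩ := hP x
      obtain ⟨j, -, hj⟩ := (Nat.dvd_prime_pow Nat.prime_two).1 (orderOf_dvd_of_pow_eq_one hk)
      rcases j with _ | j
      · exfalso
        rw [pow_zero, orderOf_eq_one_iff] at hj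
        exact hx2 (by simp [hj])
      · rw [hj]; exact dvd_pow_self 2 (Nat.succ_ne_zero j)
    have hlt : orderOf (x ^ 2) ≤ n := by
      rw [orderOf_pow' x two_ne_zero, Nat.gcd_eq_right hdvd]
      have := orderOf_pos x
      omega
    have hsq : α x * α x = x * x := by
      rw [← map_mul, ← pow_two, ih _ hlt]
    set u := x⁻¹ * α x with hu
    have hxu : α x = x * u := by rw [hu]; group
    have h1 : u * x * u = x := by
      have h0 := hsq
      rw [hxu] at h0
      exact mul_left_cancel (a := x) (by simpa [mul_assoc] using h0)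
    have h2 : x⁻¹ * u * x⁻¹⁻¹ = u⁻¹ := by
      calc x⁻¹ * u * x⁻¹⁻¹ = x⁻¹ * (u * x * u) * u⁻¹ := by group
        _ = u⁻¹ := by rw [h1]; group
    have hu2 : u * u = 1 := hnr u x⁻¹ h2
    have hαu : α u = u := hfix u hu2
    have hk : ∀ k : ℕ, (α ^ k) x = x * u ^ k := by
      intro k
      induction k with
      | zero => simp
      | succ k ihk =>
        rw [pow_succ', MulAut.mul_apply, ihk, map_mul, hxu, map_pow, hαu, mul_assoc,
          ← pow_succ']
    have hum : u ^ m = 1 := by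
      have h3 := hk m
      rw [hα, MulAut.one_apply] at h3
      exact (mul_eq_left.1 h3.symm)
    obtain ⟨j, rfl⟩ := hm
    have : u = 1 := by
      rwa [pow_succ, pow_mul, pow_two, hu2, one_pow, one_mul] at hum
    rw [hxu, this, mul_one]

variable {Ω : Type*} [Group Ω] {S : Subgroup Ω}

/-- Every element is conjugate in the system to a central element of `S`. -/
def AllCentral (F : FusionSystem S) : Prop :=
  ∀ x ∈ S, ∃ z ∈ S ⊓ Subgroup.centralizer (S : Set Ω), F.IsConjElt x z

/-- No element of order at least four is conjugate in `S` to its inverse. -/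
theorem no_real [Finite S] {F : FusionSystem S} (hF : F.IsSaturated 2) (hc : AllCentral F)
    {x s : Ω} (hx : x ∈ S) (hs : s ∈ S) (h : s * x * s⁻¹ = x⁻¹) : x * x = 1 := by
  have : Fact (Nat.Prime 2) := ⟨Nat.prime_two⟩
  obtain ⟨z, hz, φ, hφ, hφz⟩ := hc x hx
  have hP : (Subgroup.zpowers x) ≤ S := Subgroup.zpowers_le.2 hx
  obtain ⟨Q, hPQ, hQa, hQr⟩ := hF (Subgroup.zpowers x) hP
  obtain ⟨e, he⟩ := (isConj_iff_exists_iso F).1 hPQ
  -- a conjugate of a central subgroup that is receptive is central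
  set R := φ.range with hRdef
  have hR : R = Subgroup.zpowers z := by
    rw [hRdef, MonoidHom.range_eq_map]
    have : (⊤ : Subgroup (Subgroup.zpowers x)) = Subgroup.zpowers ⟨x, Subgroup.mem_zpowers x⟩ := by
      rw [eq_comm, eq_top_iff]
      rintro ⟨y, hy⟩ -
      obtain ⟨k, rfl⟩ := Subgroup.mem_zpowers_iff.1 hy
      exact ⟨k, Subtype.ext (by simp)⟩
    rw [this, MonoidHom.map_zpowers, hφz]
  let e₀ : R ≃* Q := (toIso F hφ rfl).symm.trans e
  have he₀ : IsIso F e₀ := ((toIso_isIso F hφ rfl).symm).trans he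
  have hRS : R ≤ S := he₀.le_left
  have hRc : ∀ g ∈ S, ∀ r ∈ R, g * r * g⁻¹ = r := by
    intro g hg r hr
    rw [hR] at hr
    obtain ⟨k, rfl⟩ := Subgroup.mem_zpowers_iff.1 hr
    have hgz : Commute g z := hz.2 g hg
    rw [(hgz.zpow_right k).eq, mul_inv_cancel_right]
  obtain ⟨ψ, hψ, hψe⟩ := hQr.2 R _ he₀ (range_subtype_comp e₀)
  have hext : S ≤ extender S R (Q.subtype.comp e₀.toMonoidHom) := by
    intro g hg
    refine Subgroup.subset_closure ⟨hg, ?_, 1, one_mem S, fun r hr => ?_⟩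
    · rw [Subgroup.mem_normalizer_iff]
      refine fun y => ⟨fun hy => by rw [hRc g hg y hy]; exact hy, fun hy => ?_⟩
      have h1 := hRc g⁻¹ (inv_mem hg) _ hy
      rw [show g⁻¹ * (g * y * g⁻¹) * g⁻¹⁻¹ = y by group] at h1
      exact h1 ▸ hy
    · simp only [one_mul, inv_one, mul_one]
      congr 1
      exact Subtype.ext (hRc g hg r r.2)
  let ψS : S →* Ω := restr hext ψ
  have hψS : ψS ∈ F.Hom S := restr_mem F hext hψ
  have hψr : ψS.range = S :=
    range_eq_of_image_le (F.injective_of_mem hψS) (range_le_S F hψS) le_rfl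
  have hQc : ∀ g ∈ S, ∀ q : Q, g * (q : Ω) * g⁻¹ = q := by
    intro g hg q
    obtain ⟨g₀, rfl⟩ : g ∈ ψS.range := by rw [hψr]; exact hg
    obtain ⟨r, rfl⟩ := e₀.surjective q
    have hr : ψS ⟨r, hRS r.2⟩ = (e₀ r : Ω) := hψe r r.2 (hext (hRS r.2))
    rw [← hr, ← map_mul, ← map_inv, ← map_mul]
    congr 1
    exact Subtype.ext (hRc g₀ g₀.2 r r.2)
  -- inversion of `Q` is in the automorphism group of odd order
  have hinv : ∀ a : (Subgroup.zpowers x), s * (a : Ω) * s⁻¹ = (a : Ω)⁻¹ := by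
    rintro ⟨a, ha⟩
    obtain ⟨k, rfl⟩ := Subgroup.mem_zpowers_iff.1 ha
    show s * x ^ k * s⁻¹ = (x ^ k)⁻¹
    rw [← conj_zpow, h, inv_zpow]
  have hnorm : s ∈ Subgroup.normalizer ((Subgroup.zpowers x) : Set Ω) := by
    rw [Subgroup.mem_normalizer_iff]
    refine fun y => ⟨fun hy => by rw [hinv ⟨y, hy⟩]; exact inv_mem hy, fun hy => ?_⟩
    have h1 := hinv ⟨_, inv_mem hy⟩
    simp only at h1
    rw [inv_inv] at h1
    have h2 : (s * y * s⁻¹)⁻¹ = y := mul_left_cancel (mul_right_cancel h1)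
    exact h2 ▸ inv_mem hy
  let a : MulAut (Subgroup.zpowers x) := (Subgroup.zpowers x).normalizerMonoidHom ⟨s, hnorm⟩
  have ha : a ∈ F.autGroup (Subgroup.zpowers x) :=
    autInducedBy_le_autGroup F hP (mem_autInducedBy.2 ⟨s, hs, fun _ => rfl⟩)
  have ha_inv : ∀ y : (Subgroup.zpowers x), a y = y⁻¹ := fun y => Subtype.ext (hinv y)
  set b : MulAut Q := MulAut.congr e a with hbdef
  have hb : b ∈ F.autGroup Q := autCongr_mem F he ha
  have hb_inv : ∀ q : Q, b q = q⁻¹ := by
    intro q
    rw [hbdef, autCongr_apply, ha_inv, map_inv, MulEquiv.apply_symm_apply]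
  have : Finite Q := finite_of_le ‹_› hQa.1
  obtain ⟨-, T, hT⟩ := hQa
  have hTbot : (T : Subgroup (F.autGroup Q)) = ⊥ := by
    rw [hT, eq_bot_iff]
    intro c hc'
    obtain ⟨g, hg, hge⟩ := mem_autInducedBy.1 (Subgroup.mem_subgroupOf.1 hc')
    rw [Subgroup.mem_bot]
    refine Subtype.ext (MulEquiv.ext fun q => Subtype.ext ?_)
    rw [hge q]
    exact hQc g hg q
  have hb1 : (⟨b, hb⟩ : F.autGroup Q) = 1 := by
    by_contra hne
    have h2 : (⟨b, hb⟩ : F.autGroup Q) ^ 2 = 1 := by
      refine Subtype.ext (MulEquiv.ext fun q => ?_)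
      show (b ^ 2) q = q
      rw [pow_two, MulAut.mul_apply, hb_inv, hb_inv, inv_inv]
    have hord : orderOf (⟨b, hb⟩ : F.autGroup Q) = 2 := orderOf_eq_prime h2 hne
    have hdvd := T.dvd_card_of_dvd_card (hord ▸ orderOf_dvd_natCard _)
    rw [hTbot, Subgroup.card_bot] at hdvd
    omega
  set q : Q := e ⟨x, Subgroup.mem_zpowers x⟩ with hq
  have hqq : q = q⁻¹ := by
    have h1 := hb_inv q
    rw [show b = 1 from congrArg Subtype.val hb1] at h1
    exact h1
  have hxx : (⟨x, Subgroup.mem_zpowers x⟩ : (Subgroup.zpowers x)) = (⟨x, Subgroup.mem_zpowers x⟩ : (Subgroup.zpowers x))⁻¹ :=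
    e.injective (by rw [map_inv]; exact hqq)
  have hxx' : x = x⁻¹ := congrArg Subtype.val hxx
  calc x * x = x * x⁻¹ := by rw [← hxx']
    _ = 1 := mul_inv_cancel x

theorem invol_comm [Finite S] {F : FusionSystem S} (hF : F.IsSaturated 2) (hc : AllCentral F)
    {a b : Ω} (ha : a ∈ S) (hb : b ∈ S) (ha2 : a * a = 1) (hb2 : b * b = 1) : a * b = b * a := by
  have hai : a⁻¹ = a := inv_eq_of_mul_eq_one_right ha2
  have hbi : b⁻¹ = b := inv_eq_of_mul_eq_one_right hb2
  have h : a * (a * b) * a⁻¹ = (a * b)⁻¹ := by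
    rw [mul_inv_rev, hai, hbi, ← mul_assoc, ha2, one_mul]
  have h1 := no_real hF hc (mul_mem ha hb) ha h
  have h2 := inv_eq_of_mul_eq_one_right h1
  rw [mul_inv_rev, hai, hbi] at h2
  exact h2.symm

/-- If every element is conjugate into the centre then `S` is abelian. -/
theorem isMulCommutative [Finite S] (hS : IsPGroup 2 S) {F : FusionSystem S}
    (hF : F.IsSaturated 2) (hc : AllCentral F) : IsMulCommutative S := by
  have : Fact (Nat.Prime 2) := ⟨Nat.prime_two⟩
  let E : Subgroup Ω :=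
    { carrier := {x | x ∈ S ∧ x * x = 1}
      one_mem' := ⟨one_mem S, mul_one 1⟩
      mul_mem' := fun {a b} ha hb => ⟨mul_mem ha.1 hb.1, by
        rw [mul_assoc, ← mul_assoc b, ← invol_comm hF hc ha.1 hb.1 ha.2 hb.2, mul_assoc a b b,
          hb.2, mul_one, ha.2]⟩
      inv_mem' := fun {a} ha => ⟨inv_mem ha.1, by rw [← mul_inv_rev, ha.2, inv_one]⟩ }
  have hES : E ≤ S := fun x hx => hx.1
  have hEn : ∀ g ∈ S, ∀ x ∈ E, g * x * g⁻¹ ∈ E := fun g hg x hx =>
    ⟨mul_mem (mul_mem hg hx.1) (inv_mem hg), by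
      rw [show g * x * g⁻¹ * (g * x * g⁻¹) = g * (x * x) * g⁻¹ by group, hx.2]; group⟩
  have hEauto : ∀ (P : Subgroup Ω), P ≤ S → ∀ α : MulAut P, ∀ x : P, (α x : Ω) ∈ E ↔ (x : Ω) ∈ E := by
    intro P hP α x
    constructor
    · rintro ⟨-, h⟩
      refine ⟨hP x.2, ?_⟩
      have : α x * α x = 1 := Subtype.ext h
      rw [← map_mul, map_eq_one_iff α α.injective] at this
      exact congrArg Subtype.val this
    · rintro ⟨-, h⟩
      refine ⟨hP (α x).2, ?_⟩
      have h' : x * x = 1 := Subtype.ext h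
      have h1 := congrArg α h'
      rw [map_mul, map_one] at h1
      exact congrArg Subtype.val h1
  -- the involutions lie in every essential subgroup
  have hEess : ∀ P, F.IsEssential 2 P → E ≤ P := by
    intro P hP
    have hPS : P ≤ S := hP.1.1
    let N : Subgroup (MulAut P) :=
      { carrier := {α | α ∈ F.autGroup P ∧ (∀ x : P, (x : Ω) ∈ E → α x = x) ∧
          ∀ x : P, ((x⁻¹ * α x : P) : Ω) ∈ E}
        one_mem' := ⟨one_mem _, fun _ _ => rfl, fun x => by simp⟩
        mul_mem' := fun {α β} hα hβ => ⟨mul_mem hα.1 hβ.1, fun x hx => by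
            rw [MulAut.mul_apply, hβ.2.1 x hx, hα.2.1 x hx], fun x => by
            have h : x⁻¹ * (α * β) x = (x⁻¹ * β x) * ((β x)⁻¹ * α (β x)) := by
              rw [MulAut.mul_apply]; group
            rw [h, Subgroup.coe_mul]
            exact mul_mem (hβ.2.2 x) (hα.2.2 _)⟩
        inv_mem' := fun {α} hα => ⟨inv_mem hα.1, fun x hx => by
            rw [MulAut.inv_def, MulEquiv.symm_apply_eq, hα.2.1 x hx], fun x => by
            have h := inv_mem (hα.2.2 (α⁻¹ x))
            rw [show α (α⁻¹ x) = x from α.apply_symm_apply x, ← Subgroup.coe_inv] at h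
            rwa [show ((α⁻¹ x)⁻¹ * x)⁻¹ = x⁻¹ * α⁻¹ x by group] at h⟩ }
    have hN2 : IsPGroup 2 N := fun α => ⟨1, by
      refine Subtype.ext (MulEquiv.ext fun x => ?_)
      show ((α : MulAut P) ^ (2 ^ 1)) x = x
      obtain ⟨-, h1, h2⟩ := α.2
      rw [pow_one, pow_two, MulAut.mul_apply]
      set u := x⁻¹ * (α : MulAut P) x with hu
      have hx : (α : MulAut P) x = x * u := by rw [hu]; group
      have huu : u * u = 1 := Subtype.ext (h2 x).2
      rw [hx, map_mul, hx, h1 u (h2 x), mul_assoc, huu, mul_one]⟩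
    have hNn : ∀ α ∈ F.autGroup P, ∀ n ∈ N, α * n * α⁻¹ ∈ N := by
      intro α hα n hn
      refine ⟨mul_mem (mul_mem hα hn.1) (inv_mem hα), fun x hx => ?_, fun x => ?_⟩
      · have h1 : ((α⁻¹ x : P) : Ω) ∈ E := (hEauto P hPS α⁻¹ x).2 hx
        rw [MulAut.mul_apply, MulAut.mul_apply, hn.2.1 _ h1]
        exact α.apply_symm_apply x
      · have h1 := hn.2.2 (α⁻¹ x)
        rw [← hEauto P hPS α, map_mul, map_inv,
          show α (α⁻¹ x) = x from α.apply_symm_apply x] at h1
        rw [MulAut.mul_apply, MulAut.mul_apply]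
        exact h1
    have hno := noOuterPNormal_of_essential hP
    have key : ∀ g ∈ E, g ∈ Subgroup.normalizer (P : Set Ω) → g ∈ P := by
      intro g hg hgn
      refine mem_of_noOuter hP.1 hno (N := N) (fun α hα => hα.1) hNn hN2 ⟨hg.1, hgn⟩
        ⟨autInducedBy_le_autGroup F hPS (mem_autInducedBy.2 ⟨g, hg.1, fun _ => rfl⟩),
          fun x hx => Subtype.ext ?_, fun x => ?_⟩
      · show g * (x : Ω) * g⁻¹ = x
        rw [invol_comm hF hc hg.1 hx.1 hg.2 hx.2, mul_inv_cancel_right]
      · show (x : Ω)⁻¹ * (g * x * g⁻¹) ∈ E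
        rw [show (x : Ω)⁻¹ * (g * x * g⁻¹) = ((x : Ω)⁻¹ * g * (x⁻¹ : Ω)⁻¹) * g⁻¹ by group]
        exact mul_mem (hEn _ (inv_mem (hPS x.2)) g hg) (inv_mem hg)
    have hnorm : P ≤ Subgroup.normalizer (E : Set Ω) := by
      intro g hg
      rw [Subgroup.mem_normalizer_iff]
      refine fun y => ⟨fun hy => hEn g (hPS hg) y hy, fun hy => ?_⟩
      have h := hEn g⁻¹ (inv_mem (hPS hg)) _ hy
      rwa [show g⁻¹ * (g * y * g⁻¹) * g⁻¹⁻¹ = y by group] at h
    refine le_sup_right.trans (le_of_normalizer_self hS (sup_le hPS hES) le_sup_left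
      fun g hgK hgN => ?_)
    have hmul : g ∈ (P : Set Ω) * (E : Set Ω) := by
      rw [← Subgroup.coe_mul_of_left_le_normalizer_right P E hnorm]
      exact hgK
    obtain ⟨a, ha, b, hb, rfl⟩ := hmul
    refine mul_mem ha (key b hb ?_)
    simpa using mul_mem (inv_mem (Subgroup.le_normalizer (H := P) ha)) hgN
  -- the involutions form a normal, hence central, subgroup
  have hEnormal : F.IsNormal E := isNormal_of_autGroups hS hF (fun P hP => by
    have hle : E ≤ P := by
      rcases hP with rfl | hP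
      · exact hES
      · exact hEess P hP
    have hPS : P ≤ S := by
      rcases hP with rfl | hP
      · exact le_rfl
      · exact hP.1.1
    refine ⟨hle, fun α _ => ?_⟩
    ext y
    rw [Subgroup.mem_map, Subgroup.mem_subgroupOf]
    constructor
    · rintro ⟨x, hx, rfl⟩
      exact (hEauto P hPS α x).2 hx
    · intro hy
      refine ⟨α.symm y, ?_, α.apply_symm_apply y⟩
      rw [Subgroup.mem_subgroupOf, ← hEauto P hPS α, α.apply_symm_apply]
      exact hy)
  have hEZ : ∀ x ∈ S, ∀ e ∈ E, x * e = e * x := by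
    intro x hx e he
    obtain ⟨z, hz, φ, hφ, hφz⟩ := hc x hx
    obtain ⟨ψ, hψ, hψe, -⟩ := hEnormal.2 _ φ hφ
    set u : (Subgroup.zpowers x ⊔ E : Subgroup Ω) :=
      Subgroup.inclusion le_sup_left ⟨x, Subgroup.mem_zpowers x⟩ with hu
    set v : (Subgroup.zpowers x ⊔ E : Subgroup Ω) :=
      Subgroup.inclusion le_sup_right ⟨e, he⟩ with hv
    have hu' : ψ u = z := (hψe _).trans hφz
    have h1 : ψ (u * v) = ψ (v * u) := by
      rw [map_mul, map_mul, hu']
      exact (hz.2 _ (map_mem_S F hψ v)).symm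
    exact congrArg Subtype.val (F.injective_of_mem hψ h1)
  -- there are no essential subgroups
  have hess : ∀ P, F.IsEssential 2 P → S ≤ P := by
    intro P hP
    have hPS : P ≤ S := hP.1.1
    have : Finite P := finite_of_le ‹_› hPS
    have : Finite (MulAut P) :=
      Finite.of_injective (fun a : MulAut P => (a : P → P)) DFunLike.coe_injective
    let N : Subgroup (MulAut P) :=
      { carrier := {α | α ∈ F.autGroup P ∧ ∀ x : P, (x : Ω) ∈ E → α x = x}
        one_mem' := ⟨one_mem _, fun _ _ => rfl⟩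
        mul_mem' := fun {α β} hα hβ => ⟨mul_mem hα.1 hβ.1, fun x hx => by
            rw [MulAut.mul_apply, hβ.2 x hx, hα.2 x hx]⟩
        inv_mem' := fun {α} hα => ⟨inv_mem hα.1, fun x hx => by
            rw [MulAut.inv_def, MulEquiv.symm_apply_eq, hα.2 x hx]⟩ }
    have hN2 : IsPGroup 2 N := by
      intro α
      have hpos : 0 < orderOf (α : MulAut P) := orderOf_pos _
      obtain ⟨k, m, hm, hkm⟩ :=
        Nat.exists_eq_pow_mul_and_not_dvd hpos.ne' 2 (by norm_num)
      refine ⟨k, Subtype.ext ?_⟩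
      show (α : MulAut P) ^ (2 ^ k) = 1
      refine eq_of_fix_involutions (hS.to_le hPS)
        (fun x s h => Subtype.ext (no_real hF hc (hPS x.2) (hPS s.2) (congrArg Subtype.val h)))
        ((α : MulAut P) ^ (2 ^ k)) (m := m) (Nat.odd_iff.2 (by omega)) ?_ ?_
      · rw [← pow_mul, ← hkm, pow_orderOf_eq_one]
      · intro x hx
        exact ((N.pow_mem α.2 (2 ^ k)).2 x ⟨hPS x.2, congrArg Subtype.val hx⟩)
    have hNn : ∀ α ∈ F.autGroup P, ∀ n ∈ N, α * n * α⁻¹ ∈ N := by
      intro α hα n hn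
      refine ⟨mul_mem (mul_mem hα hn.1) (inv_mem hα), fun x hx => ?_⟩
      have h1 : ((α⁻¹ x : P) : Ω) ∈ E := (hEauto P hPS α⁻¹ x).2 hx
      rw [MulAut.mul_apply, MulAut.mul_apply, hn.2 _ h1]
      exact α.apply_symm_apply x
    refine le_of_normalizer_self hS le_rfl hPS fun g hgS hgN => ?_
    refine mem_of_noOuter hP.1 (noOuterPNormal_of_essential hP) (N := N) (fun α hα => hα.1)
      hNn hN2 ⟨hgS, hgN⟩
      ⟨autInducedBy_le_autGroup F hPS (mem_autInducedBy.2 ⟨g, hgS, fun _ => rfl⟩),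
        fun x hx => Subtype.ext ?_⟩
    show g * (x : Ω) * g⁻¹ = x
    rw [hEZ g hgS x hx, mul_inv_cancel_right]
  have hSnormal : F.IsNormal S := isNormal_of_autGroups hS hF (fun P hP => by
    have hPe : P = S := by
      rcases hP with rfl | hP
      · rfl
      · exact le_antisymm hP.1.1 (hess P hP)
    subst hPe
    refine ⟨le_rfl, fun α _ => ?_⟩
    rw [Subgroup.subgroupOf_self]
    exact Subgroup.map_top_of_surjective _ α.surjective)
  refine ⟨⟨fun x y => Subtype.ext ?_⟩⟩
  obtain ⟨z, hz, φ, hφ, hφz⟩ := hc x x.2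
  obtain ⟨ψ, hψ, hψe, -⟩ := hSnormal.2 _ φ hφ
  set u : (Subgroup.zpowers (x : Ω) ⊔ S : Subgroup Ω) :=
    Subgroup.inclusion le_sup_left ⟨x, Subgroup.mem_zpowers _⟩ with hu
  set v : (Subgroup.zpowers (x : Ω) ⊔ S : Subgroup Ω) := Subgroup.inclusion le_sup_right y with hv
  have hu' : ψ u = z := (hψe _).trans hφz
  have h1 : ψ (u * v) = ψ (v * u) := by
    rw [map_mul, map_mul, hu']
    exact (hz.2 _ (map_mem_S F hψ v)).symm
  have h2 := congrArg Subtype.val (F.injective_of_mem hψ h1)
  exact h2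

end Cfsg.Agent.LocalEven.CentralTwo
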