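import Cfsg.Agent.LocalEven.CharP
import Cfsg.Agent.Cores.Fitting
import Cfsg.Agent.Components.FStar
import Cfsg.Prelude.Def_CaseTheorems
import Mathlib.GroupTheory.FixedPointFree

/-!
The cores `O(C(y))`, `y ∈ Y#`, when some `C(z)` has characteristic 2 and no `C(x)` has components:
they are abelian, inverted by `z`, balanced, and commute with each other.
-/

open Subgroup
open scoped commutatorElement

set_option linter.unusedSectionVars false

namespace Cfsg.Agent.LocalEven.CoreGen

variable {X : Type*} [Group X] [Finite X]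

/-- `O(C(y))` inside `X`. -/
def coreC (y : X) : Subgroup X :=
  (Cfsg.oddCore ↥(centralizer ({y} : Set X))).map (centralizer ({y} : Set X)).subtype

theorem le_map_oddCore {N H : Subgroup X} (hNH : N ≤ H) (hHN : H ≤ normalizer (N : Set X))
    (hodd : Odd (Nat.card N)) : N ≤ (Cfsg.pPrimeCore 2 H).map H.subtype := by
  have h : N.subgroupOf H ≤ Cfsg.pPrimeCore 2 H := by
    refine Cores.le_pPrimeCore ((normal_subgroupOf_iff_le_normalizer hNH).2 hHN) ?_
    rw [Nat.card_congr (subgroupOfEquivOfLe hNH).toEquiv]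
    exact Nat.coprime_two_right.2 hodd
  have := map_mono (f := H.subtype) h
  rwa [map_subgroupOf_eq_of_le hNH] at this

theorem coreC_le (y : X) : coreC y ≤ centralizer ({y} : Set X) := map_subtype_le _

theorem commute_of_mem_coreC {y w : X} (hw : w ∈ coreC y) : Commute y w :=
  ((mem_centralizer_singleton_iff.1 (coreC_le y hw))).symm

theorem odd_card_coreC (y : X) : Odd (Nat.card (coreC y)) := by
  rw [coreC, card_map_of_injective (centralizer ({y} : Set X)).subtype_injective]
  exact Nat.coprime_two_right.1 Cores.pPrimeCore_coprime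

theorem normalizer_coreC {y g : X} (hg : Commute g y) :
    g ∈ normalizer (coreC y : Set X) := by
  have hn : ((coreC y).subgroupOf (centralizer ({y} : Set X))).Normal := by
    rw [coreC, subgroupOf, comap_map_eq_self_of_injective (Subgroup.subtype_injective _)]
    infer_instance
  exact (normal_subgroupOf_iff_le_normalizer (coreC_le y)).1 hn
    (mem_centralizer_singleton_iff.2 hg.eq)

theorem odd_orderOf {N : Subgroup X} (h : Odd (Nat.card N)) {w : X} (hw : w ∈ N) :
    Odd (orderOf w) :=
  Odd.of_dvd_nat h (N.orderOf_dvd_natCard hw)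

theorem mem_of_sq_mem {N : Subgroup X} {w : X} (h : Odd (orderOf w)) (hw : w ^ 2 ∈ N) : w ∈ N := by
  obtain ⟨k, hk⟩ := h
  have : (w ^ 2) ^ (k + 1) = w := by
    rw [← pow_mul, show 2 * (k + 1) = (2 * k + 1) + 1 by ring, pow_succ, ← hk, pow_orderOf_eq_one,
      one_mul]
  exact this ▸ N.pow_mem hw _

theorem mem_of_two_pow_mem {N : Subgroup X} {w : X} (h : Odd (orderOf w)) :
    ∀ {k : ℕ}, w ^ 2 ^ k ∈ N → w ∈ N
  | 0, hw => by simpa using hw
  | k + 1, hw => by
    refine mem_of_two_pow_mem h (k := k) (mem_of_sq_mem ?_ ?_)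
    · exact Odd.of_dvd_nat h (orderOf_pow_dvd (2 ^ k))
    · rwa [← pow_mul, ← pow_succ]

variable {Y : Subgroup X} {z : X}

/-- The hypotheses: `z` is an involution whose centralizer has trivial core and characteristic 2. -/
theorem coreC_inf_centralizer_eq_bot {y : X} (hy2 : y * y = 1) (hzy : Commute z y)
    (hz : centralizer (Cfsg.pCore 2 ↥(centralizer ({z} : Set X)) :
      Set ↥(centralizer ({z} : Set X))) ≤ Cfsg.pCore 2 ↥(centralizer ({z} : Set X))) :
    coreC y ⊓ centralizer ({z} : Set X) = ⊥ := by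
  set C := centralizer ({z} : Set X) with hC
  have hyC : y ∈ C := mem_centralizer_singleton_iff.2 hzy.symm.eq
  have hB : IsPGroup 2 ↥(zpowers (⟨y, hyC⟩ : C)) := by
    rintro ⟨_, m, rfl⟩
    refine ⟨1, Subtype.ext ?_⟩
    have : (⟨y, hyC⟩ : C) ^ 2 = 1 := Subtype.ext (by simpa [pow_two] using hy2)
    change ((⟨y, hyC⟩ : C) ^ m) ^ (2 ^ 1) = 1
    rw [pow_one, ← zpow_natCast, ← zpow_mul, mul_comm, zpow_mul, zpow_natCast, this, one_zpow]
  have h1 := charP_centralizer (p := 2) hz _ hB
  set H := centralizer ({y} : Set X) ⊓ C with hH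
  have heq : centralizer (zpowers (⟨y, hyC⟩ : C) : Set C) = H.subgroupOf C := by
    ext ⟨g, hg⟩
    simp only [hH, mem_subgroupOf, mem_inf, hg, and_true, mem_centralizer_iff, SetLike.mem_coe,
      Set.mem_singleton_iff, forall_eq]
    constructor
    · intro h
      exact congrArg Subtype.val (h _ (mem_zpowers _))
    · rintro h _ ⟨m, rfl⟩
      refine Subtype.ext ?_
      simpa using ((show Commute y g from h).zpow_left m).eq
  rw [heq] at h1
  have h2 := charP_congr (subgroupOfEquivOfLe (inf_le_right : H ≤ C)) h1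
  have hcore : Cfsg.pPrimeCore 2 H = ⊥ := by
    rw [← Cores.pCore_inf_pPrimeCore (p := 2) (G := H)]
    refine (inf_eq_right.2 fun x hx => h2 ?_).symm
    exact mem_centralizer_iff.2 fun q hq =>
      (mem_centralizer_iff.1 (Cores.pCore_commute_pPrimeCore hq) x hx).symm
  have hle : coreC y ⊓ C ≤ (Cfsg.pPrimeCore 2 H).map H.subtype := by
    refine le_map_oddCore (inf_le_inf_right _ (coreC_le y)) (fun g hg => ?_)
      (Odd.of_dvd_nat (odd_card_coreC y) (card_dvd_of_le inf_le_left))
    exact inf_normalizer_le_normalizer_inf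
      ⟨normalizer_coreC (mem_centralizer_singleton_iff.1 hg.1), le_normalizer hg.2⟩
  rwa [hcore, Subgroup.map_bot, le_bot_iff] at hle

/-- An involution acting without fixed points inverts. -/
theorem inverts {N : Subgroup X} (hz2 : z * z = 1) (hn : z ∈ normalizer (N : Set X))
    (hfix : N ⊓ centralizer ({z} : Set X) = ⊥) {w : X} (hw : w ∈ N) : z * w * z = w⁻¹ := by
  have hzi : z⁻¹ = z := inv_eq_of_mul_eq_one_right hz2
  have hmem : ∀ u ∈ N, z * u * z ∈ N := fun u hu => by
    simpa [hzi] using (mem_normalizer_iff.1 hn u).1 hu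
  let φ : N → N := fun u => ⟨z * u * z, hmem u u.2⟩
  let φhom : N →* N :=
    { toFun := φ
      map_one' := Subtype.ext (by simpa [φ] using hz2)
      map_mul' := fun a b => Subtype.ext (by
        change z * ((a : X) * b) * z = z * a * z * (z * b * z)
        calc z * ((a : X) * b) * z = z * a * (z * z) * b * z := by rw [hz2]; group
          _ = _ := by group) }
  have hf : MonoidHom.FixedPointFree φhom := fun u hu => by
    have h1 : z * (u : X) * z = u := congrArg Subtype.val hu
    have h2 : (u : X) * z = z * u :=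
      calc (u : X) * z = (z * z) * u * z := by rw [hz2, one_mul]
        _ = z * (z * u * z) := by group
        _ = _ := by rw [h1]
    have : (u : X) ∈ N ⊓ centralizer ({z} : Set X) := ⟨u.2, mem_centralizer_singleton_iff.2 h2⟩
    rw [hfix, mem_bot] at this
    exact Subtype.ext this
  have hinv : Function.Involutive φhom := fun u => Subtype.ext (by
    change z * (z * (u : X) * z) * z = u
    calc z * (z * (u : X) * z) * z = (z * z) * u * (z * z) := by group
      _ = u := by rw [hz2]; group)
  exact congrArg Subtype.val (congrFun (MonoidHom.FixedPointFree.coe_eq_inv_of_involutive hf hinv) ⟨w, hw⟩)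

/-- The balance property. -/
theorem balance {x y w : X} (hx2 : x * x = 1) (hy2 : y * y = 1) (hxy : Commute x y)
    (hzx : Commute z x) (hzy : Commute z y) (hz2 : z * z = 1)
    (hz : centralizer (Cfsg.pCore 2 ↥(centralizer ({z} : Set X)) :
      Set ↥(centralizer ({z} : Set X))) ≤ Cfsg.pCore 2 ↥(centralizer ({z} : Set X)))
    (hE : Cfsg.layer ↥(centralizer ({y} : Set X)) = ⊥)
    (hw : w ∈ coreC x) (hwy : Commute y w) : w ∈ coreC y := by
  set H := centralizer ({y} : Set X) with hH
  have hwH : w ∈ H := mem_centralizer_singleton_iff.2 hwy.symm.eq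
  have hxH : x ∈ H := mem_centralizer_singleton_iff.2 hxy.eq
  have hwodd : Odd (orderOf w) := odd_orderOf (odd_card_coreC x) hw
  have hord : ¬ 2 ∣ orderOf w := hwodd.not_two_dvd_nat
  have hzi : z⁻¹ = z := inv_eq_of_mul_eq_one_right hz2
  have hzinv : ∀ {a u : X}, a * a = 1 → Commute z a → u ∈ coreC a → z * u * z = u⁻¹ :=
    fun ha hza hu => inverts hz2 (normalizer_coreC hza)
      (coreC_inf_centralizer_eq_bot ha hza hz) hu
  -- `w` centralizes every `O_q(H)`
  have hcomm : ∀ q : Nat.Primes, ∀ r ∈ (Cfsg.pCore (q : ℕ) H).map H.subtype, Commute w r := by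
    intro q
    have : Fact (q : ℕ).Prime := ⟨q.2⟩
    set R := (Cfsg.pCore (q : ℕ) H).map H.subtype with hR
    have hRp : IsPGroup (q : ℕ) R := Cores.pCore_isPGroup.map _
    have hHR : H ≤ normalizer (R : Set X) := by
      refine (normal_subgroupOf_iff_le_normalizer (map_subtype_le _)).1 ?_
      rw [subgroupOf, comap_map_eq_self_of_injective H.subtype_injective]
      infer_instance
    by_cases hq : (q : ℕ) = 2
    · rw [hq] at hRp
      refine aXb_lemma hRp (A := zpowers x) ?_ ((zpowers_le.2 hxH).trans hHR) (hHR hwH) hord ?_ ?_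
      · rintro ⟨_, m, rfl⟩
        refine ⟨1, Subtype.ext ?_⟩
        change (x ^ m) ^ (2 ^ 1) = 1
        rw [pow_one, ← zpow_natCast, ← zpow_mul, mul_comm, zpow_mul, zpow_natCast, pow_two, hx2,
          one_zpow]
      · rintro _ ⟨m, rfl⟩
        exact ((commute_of_mem_coreC hw).zpow_left m).symm
      · intro r hr hfix
        have h1 : ⁅w, r⁆ ∈ coreC x :=
          commutator_mem_of_normalizer' hw (normalizer_coreC (hfix x (mem_zpowers x)).symm)
        have h2 : ⁅w, r⁆ ∈ R := commutator_mem_of_normalizer (hHR hwH) hr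
        obtain ⟨n, hn⟩ := IsPGroup.iff_card.1 hRp
        have h3 : coreC x ⊓ R = ⊥ := inf_eq_bot_of_coprime (by
          rw [hn]; exact Nat.Coprime.pow_right n (Nat.coprime_two_right.2 (odd_card_coreC x)))
        have : ⁅w, r⁆ ∈ coreC x ⊓ R := ⟨h1, h2⟩
        rw [h3, mem_bot] at this
        exact commutatorElement_eq_one_iff_commute.1 this
    · have hle : R ≤ coreC y := by
        refine le_map_oddCore (map_subtype_le _) hHR ?_
        obtain ⟨n, hn⟩ := IsPGroup.iff_card.1 hRp
        rw [hn]
        exact (q.2.odd_of_ne_two hq).pow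
      intro r hr
      have h1 := hzinv hy2 hzy (hle hr)
      have hconj : w * r * w⁻¹ ∈ R := (mem_normalizer_iff.1 (hHR hwH) r).1 hr
      have h2 := hzinv hy2 hzy (hle hconj)
      have h3 := hzinv hx2 hzx hw
      have h4 : z * w⁻¹ * z = w := by
        have := hzinv hx2 hzx (inv_mem hw)
        simpa using this
      have h5 : z * (w * r * w⁻¹) * z = (z * w * z) * (z * r * z) * (z * w⁻¹ * z) :=
        calc z * (w * r * w⁻¹) * z = z * w * 1 * r * 1 * w⁻¹ * z := by group
          _ = z * w * (z * z) * r * (z * z) * w⁻¹ * z := by rw [hz2]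
          _ = _ := by group
      rw [h2, h3, h1, h4] at h5
      have h6 : Commute (w ^ 2) r := by
        have h7 := congrArg Inv.inv h5
        simp only [inv_inv, mul_inv_rev] at h7
        have h8 : w * (w * r * w⁻¹) * w⁻¹ = r := by rw [h7]; group
        calc w ^ 2 * r = w * (w * r * w⁻¹) * w⁻¹ * w ^ 2 := by rw [pow_two]; group
          _ = r * w ^ 2 := by rw [h8]
      have h9 : w ∈ centralizer ({r} : Set X) :=
        mem_of_sq_mem hwodd (mem_centralizer_singleton_iff.2 h6.eq)
      exact mem_centralizer_singleton_iff.1 h9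
  -- hence lies in `F(H)`
  have hF : (⟨w, hwH⟩ : H) ∈ ⨆ q : Nat.Primes, Cfsg.pCore (q : ℕ) H := by
    rw [← Cores.fittingSubgroup_eq_iSup_pCore]
    have hle : Cfsg.generalizedFittingSubgroup H ≤ ⨆ q : Nat.Primes, Cfsg.pCore (q : ℕ) H := by
      rw [Cfsg.generalizedFittingSubgroup, hE, bot_sup_eq, Cores.fittingSubgroup_eq_iSup_pCore]
    have hcent : (⨆ q : Nat.Primes, Cfsg.pCore (q : ℕ) H) ≤
        centralizer ({(⟨w, hwH⟩ : H)} : Set H) := iSup_le fun q r hr =>
      mem_centralizer_singleton_iff.2 (Subtype.ext (hcomm q r ⟨r, hr, rfl⟩).symm.eq)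
    have := Components.centralizer_genFitting_le (G := H) (mem_centralizer_iff.2 fun r hr =>
      mem_centralizer_singleton_iff.1 (hcent (hle hr)) : (⟨w, hwH⟩ : H) ∈
        centralizer (Cfsg.generalizedFittingSubgroup H : Set H))
    rw [Cores.fittingSubgroup_eq_iSup_pCore]
    exact hle this
  -- and an element of odd order of `F(H)` lies in the core
  have hsup : (⨆ q : Nat.Primes, Cfsg.pCore (q : ℕ) H) ≤
      Cfsg.pCore 2 H ⊔ Cfsg.pPrimeCore 2 H := iSup_le fun q => by
    by_cases hq : (q : ℕ) = 2
    · rw [hq]; exact le_sup_left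
    · refine le_sup_of_le_right (Cores.le_pPrimeCore inferInstance ?_)
      have : Fact (q : ℕ).Prime := ⟨q.2⟩
      obtain ⟨n, hn⟩ := IsPGroup.iff_card.1 (Cores.pCore_isPGroup (p := (q : ℕ)) (G := H))
      rw [hn]
      exact Nat.coprime_two_right.2 (q.2.odd_of_ne_two hq).pow
  obtain ⟨a, ha, b, hb, hab⟩ := mem_sup_of_normal_right.1 (hsup hF)
  obtain ⟨k, hk⟩ := (Cores.pCore_isPGroup (p := 2) (G := H)) ⟨a, ha⟩
  have hk' : a ^ 2 ^ k = 1 := by simpa [Subtype.ext_iff] using hk
  have hcm : Commute a b := (mem_centralizer_iff.1 (Cores.pCore_commute_pPrimeCore ha) b hb).symm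
  have : (⟨w, hwH⟩ : H) ^ 2 ^ k ∈ Cfsg.pPrimeCore 2 H := by
    rw [← hab, hcm.mul_pow, hk', one_mul]
    exact pow_mem hb _
  exact mem_of_two_pow_mem hwodd (k := k) ⟨_, this, rfl⟩

theorem coreC_comm {a s t : X} (ha2 : a * a = 1) (hza : Commute z a) (hz2 : z * z = 1)
    (hz : centralizer (Cfsg.pCore 2 ↥(centralizer ({z} : Set X)) :
      Set ↥(centralizer ({z} : Set X))) ≤ Cfsg.pCore 2 ↥(centralizer ({z} : Set X)))
    (hs : s ∈ coreC a) (ht : t ∈ coreC a) : Commute s t := by
  have e : ∀ u ∈ coreC a, z * u * z = u⁻¹ := fun u hu =>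
    inverts hz2 (normalizer_coreC hza) (coreC_inf_centralizer_eq_bot ha2 hza hz) hu
  have h1 := e _ (mul_mem hs ht)
  have h3 : z * (s * t) * z = (z * s * z) * (z * t * z) :=
    calc z * (s * t) * z = z * s * 1 * t * z := by group
      _ = z * s * (z * z) * t * z := by rw [hz2]
      _ = _ := by group
  rw [h1, e s hs, e t ht, mul_inv_rev] at h3
  exact Commute.inv_inv_iff.1 (show Commute t⁻¹ s⁻¹ from h3) |>.symm

theorem commute_pair {Y : Subgroup X} (hY : Cfsg.IsElementaryAbelian 2 Y) (h8 : 8 ≤ Nat.card Y)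
    (hE : ∀ x ∈ Y, x ≠ 1 → Cfsg.layer ↥(centralizer ({x} : Set X)) = ⊥) (hzY : z ∈ Y)
    (hz : centralizer (Cfsg.pCore 2 ↥(centralizer ({z} : Set X)) :
      Set ↥(centralizer ({z} : Set X))) ≤ Cfsg.pCore 2 ↥(centralizer ({z} : Set X)))
    {x y : X} (hx : x ∈ Y) (hy : y ∈ Y) {w v : X}
    (hw : w ∈ coreC x) (hv : v ∈ coreC y) : Commute w v := by
  classical
  have hc : ∀ a ∈ Y, ∀ b ∈ Y, Commute a b := fun a ha b hb =>
    congrArg Subtype.val (hY.1.is_comm.comm ⟨a, ha⟩ ⟨b, hb⟩)
  have h2 : ∀ a ∈ Y, a * a = 1 := fun a ha => by simpa [pow_two] using hY.2 a ha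
  have hinv : ∀ a ∈ Y, a⁻¹ = a := fun a ha => inv_eq_of_mul_eq_one_right (h2 a ha)
  -- signed elements
  let S : X → Finset ↥Y → Set X := fun a F =>
    {u | u ∈ coreC a ∧ ∀ b ∈ F, Commute (b : X) u ∨ (b : X) * u * (b : X) = u⁻¹}
  have hgen : ∀ a ∈ Y, ∀ F : Finset ↥Y, coreC a ≤ closure (S a F) := by
    intro a ha F
    induction F using Finset.induction with
    | empty => exact fun u hu => subset_closure ⟨hu, by simp⟩
    | @insert b F _ ih =>
      refine ih.trans ((closure_le _).2 ?_)
      rintro u ⟨hu, hsign⟩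
      have hbn := normalizer_coreC (y := a) (hc b b.2 a ha)
      have hab : ∀ s t : X, s ∈ coreC a → t ∈ coreC a → Commute s t := fun s t hs ht =>
        coreC_comm (h2 a ha) (hc z hzY a ha) (h2 z hzY) hz hs ht
      obtain ⟨u', hu'⟩ : ∃ u', u' = (b : X) * u * (b : X) := ⟨_, rfl⟩
      have hu'mem : u' ∈ coreC a := by
        simpa [hu', hinv b b.2] using (mem_normalizer_iff.1 hbn u).1 hu
      have huu' := hab u u' hu hu'mem
      have hbb : (b : X) * u' * (b : X) = u := by
        calc (b : X) * u' * (b : X) = ((b : X) * b) * u * ((b : X) * b) := by rw [hu']; group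
          _ = u := by rw [h2 b b.2]; group
      have hconj : ∀ s t : X, (b : X) * (s * t) * b = (b * s * b) * (b * t * b) := fun s t =>
        calc (b : X) * (s * t) * b = b * s * 1 * t * b := by group
          _ = b * s * ((b : X) * b) * t * b := by rw [h2 b b.2]
          _ = _ := by group
      have hconji : ∀ s : X, (b : X) * s⁻¹ * b = ((b : X) * s * b)⁻¹ := fun s => by
        rw [mul_inv_rev, mul_inv_rev, hinv b b.2, mul_assoc]
      have hf : u * u' ∈ closure (S a (insert b F)) := by
        refine subset_closure ⟨mul_mem hu hu'mem, fun c hc' => ?_⟩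
        rcases Finset.mem_insert.1 hc' with rfl | hcF
        · left
          have h := hconj u u'
          rw [← hu', hbb] at h
          rw [← huu'.eq] at h
          calc (c : X) * (u * u') = (c : X) * (u * u') * ((c : X) * c) := by rw [h2 c c.2, mul_one]
            _ = (c * (u * u') * c) * c := by group
            _ = u * u' * c := by rw [h]
        · have hcb := hc c c.2 b b.2
          rcases hsign c hcF with h | h
          · exact Or.inl (h.mul_right (hu' ▸ (hcb.mul_right h).mul_right hcb))
          · right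
            have h' : (c : X) * u' * c = u'⁻¹ := by
              calc (c : X) * u' * c = ((c : X) * b) * u * (b * c) := by rw [hu']; group
                _ = ((b : X) * c) * u * (c * b) := by rw [hcb.eq]
                _ = b * (c * u * c) * b := by group
                _ = _ := by rw [h, hconji, ← hu']
            calc (c : X) * (u * u') * c = c * u * ((c : X) * c) * u' * c := by rw [h2 c c.2]; group
              _ = (c * u * c) * (c * u' * c) := by group
              _ = (u * u')⁻¹ := by rw [h, h', mul_inv_rev, (huu'.inv_inv).eq]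
      have hi : u * u'⁻¹ ∈ closure (S a (insert b F)) := by
        refine subset_closure ⟨mul_mem hu (inv_mem hu'mem), fun c hc' => ?_⟩
        rcases Finset.mem_insert.1 hc' with rfl | hcF
        · right
          rw [hconj, ← hu', hconji, hbb, mul_inv_rev, inv_inv]
        · have hcb := hc c c.2 b b.2
          rcases hsign c hcF with h | h
          · exact Or.inl (h.mul_right (hu' ▸ (hcb.mul_right h).mul_right hcb : Commute (c : X) u').inv_right)
          · right
            have h' : (c : X) * u' * c = u'⁻¹ := by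
              calc (c : X) * u' * c = ((c : X) * b) * u * (b * c) := by rw [hu']; group
                _ = ((b : X) * c) * u * (c * b) := by rw [hcb.eq]
                _ = b * (c * u * c) * b := by group
                _ = _ := by rw [h, hconji, ← hu']
            have h'' : (c : X) * u'⁻¹ * c = u' := by
              calc (c : X) * u'⁻¹ * c = ((c : X)⁻¹ * u' * (c : X)⁻¹)⁻¹ := by group
                _ = u' := by rw [hinv c c.2, h', inv_inv]
            calc (c : X) * (u * u'⁻¹) * c = c * u * ((c : X) * c) * u'⁻¹ * c := by rw [h2 c c.2]; group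
              _ = (c * u * c) * (c * u'⁻¹ * c) := by group
              _ = (u * u'⁻¹)⁻¹ := by rw [h, h'', mul_inv_rev, inv_inv, (huu'.inv_left).eq]
      refine mem_of_sq_mem (odd_orderOf (odd_card_coreC a) hu) ?_
      have := mul_mem hf hi
      have e : u * u' * (u * u'⁻¹) = u ^ 2 := by
        calc u * u' * (u * u'⁻¹) = u * (u' * u) * u'⁻¹ := by group
          _ = u ^ 2 := by rw [← huu'.eq, pow_two]; group
      rwa [e] at this
  have : Fintype ↥Y := Fintype.ofFinite _
  have hwv : ∀ w ∈ S x Finset.univ, ∀ v ∈ S y Finset.univ, Commute w v := by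
    rintro w ⟨hw, hsw⟩ v ⟨hv, hsv⟩
    obtain ⟨a, b, hne, heq⟩ := Fintype.exists_ne_map_eq_of_card_lt
      (fun a : ↥Y => (decide (Commute (a : X) w), decide (Commute (a : X) v)))
      (by rw [Fintype.card_prod, Fintype.card_bool, ← Nat.card_eq_fintype_card (α := ↥Y)]; omega)
    have hfix : ∀ u : X, (Commute (a : X) u ∨ (a : X) * u * a = u⁻¹) →
        (Commute (b : X) u ∨ (b : X) * u * b = u⁻¹) → (Commute (a : X) u ↔ Commute (b : X) u) →
        Commute ((a : X) * b) u := by
      intro u ha hb hiff
      by_cases hau : Commute (a : X) u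
      · exact hau.mul_left (hiff.1 hau)
      · have h3 := ha.resolve_left hau
        have h4 := hb.resolve_left fun h => hau (hiff.2 h)
        have h5 : (a : X) * b * u * (b * a) = u := by
          calc (a : X) * b * u * (b * a) = a * (b * u * b) * a := by group
            _ = ((a : X)⁻¹ * u * (a : X)⁻¹)⁻¹ := by rw [h4]; group
            _ = u := by rw [hinv a a.2, h3, inv_inv]
        calc (a : X) * b * u = a * b * u * ((b * a) * (a * b)) := by
              rw [show (b : X) * a * (a * b) = b * ((a : X) * a) * b by group, h2 a a.2, mul_one,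
                h2 b b.2, mul_one]
          _ = (a * b * u * (b * a)) * (a * b) := by group
          _ = u * (a * b) := by rw [h5]
    simp only [Prod.mk.injEq, decide_eq_decide] at heq
    have hcY : (a : X) * b ∈ Y := mul_mem a.2 b.2
    have hc1 : (a : X) * b ≠ 1 := fun h => hne (Subtype.ext
      ((eq_inv_of_mul_eq_one_left h).trans (hinv b b.2)))
    have hwc : w ∈ coreC ((a : X) * b) :=
      balance (h2 x hx) (h2 _ hcY) (hc x hx _ hcY) (hc z hzY x hx) (hc z hzY _ hcY) (h2 z hzY) hz
        (hE _ hcY hc1) hw (hfix w (hsw a (Finset.mem_univ a)) (hsw b (Finset.mem_univ b)) heq.1)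
    have hvc : v ∈ coreC ((a : X) * b) :=
      balance (h2 y hy) (h2 _ hcY) (hc y hy _ hcY) (hc z hzY y hy) (hc z hzY _ hcY) (h2 z hzY) hz
        (hE _ hcY hc1) hv (hfix v (hsv a (Finset.mem_univ a)) (hsv b (Finset.mem_univ b)) heq.2)
    exact coreC_comm (h2 _ hcY) (hc z hzY _ hcY) (h2 z hzY) hz hwc hvc
  have h1 : ∀ v ∈ S y Finset.univ, coreC x ≤ centralizer ({v} : Set X) := fun v hv' =>
    (hgen x hx _).trans ((closure_le _).2 fun w hw' =>
      mem_centralizer_singleton_iff.2 (hwv w hw' v hv').eq)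
  have h2' : coreC y ≤ centralizer ({w} : Set X) :=
    (hgen y hy _).trans ((closure_le _).2 fun v hv' =>
      mem_centralizer_singleton_iff.2 (mem_centralizer_singleton_iff.1 (h1 v hv' hw)).symm)
  exact (mem_centralizer_singleton_iff.1 (h2' hv)).symm

theorem odd_card_of_commute {ι : Type*} (f : ι → Subgroup X) (hodd : ∀ i, Odd (Nat.card (f i)))
    (hcomm : ∀ i j, ∀ a ∈ f i, ∀ b ∈ f j, Commute a b) : Odd (Nat.card ↥(⨆ i, f i)) := by
  have hle : ∀ i, (⨆ j, f j) ≤ centralizer (f i : Set X) := fun i => iSup_le fun j b hb =>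
    mem_centralizer_iff.2 fun a ha => (hcomm i j a ha b hb).eq
  have hc : ∀ a ∈ ⨆ i, f i, ∀ b ∈ ⨆ i, f i, Commute a b := fun a ha b hb => by
    have : (⨆ i, f i) ≤ centralizer ({b} : Set X) := iSup_le fun i a ha =>
      mem_centralizer_singleton_iff.2 (mem_centralizer_iff.1 (hle i hb) a ha)
    exact mem_centralizer_singleton_iff.1 (this ha)
  have hall : ∀ a ∈ ⨆ i, f i, Odd (orderOf a) := by
    intro a ha
    refine Subgroup.iSup_induction' (C := fun a _ => Odd (orderOf a)) f
      (fun i a ha => odd_orderOf (hodd i) ha) (by simp) ?_ ha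
    intro a b ha hb hoa hob
    exact Odd.of_dvd_nat (hoa.mul hob) ((hc a ha b hb).orderOf_mul_dvd_mul_orderOf)
  by_contra hev
  obtain ⟨g, hg⟩ := exists_prime_orderOf_dvd_card' (G := ↥(⨆ i, f i)) 2
    (even_iff_two_dvd.1 (Nat.not_odd_iff_even.1 hev))
  rw [← Subgroup.orderOf_coe] at hg
  have := hall g g.2
  rw [hg] at this
  exact absurd this (by decide)

theorem conj_coreC_le (g y : X) :
    (coreC y).map (MulAut.conj g).toMonoidHom ≤ coreC (g * y * g⁻¹) := by
  have key : ∀ (h a b : X), Commute a b → Commute (h * a * h⁻¹) (h * b * h⁻¹) := fun h a b hab =>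
    hab.map (MulAut.conj h)
  refine le_map_oddCore ?_ ?_ ?_
  · rintro _ ⟨u, hu, rfl⟩
    exact mem_centralizer_singleton_iff.2 (key g u y (commute_of_mem_coreC hu).symm).eq
  · intro c hc
    have hc' : Commute (g⁻¹ * c * g) y := by
      have := key g⁻¹ c _ (mem_centralizer_singleton_iff.1 hc)
      rw [inv_inv] at this
      rwa [show g⁻¹ * (g * y * g⁻¹) * g = y by group] at this
    refine mem_normalizer_iff.2 fun u => ?_
    simp only [mem_map, MulEquiv.coe_toMonoidHom, MulAut.conj_apply]
    have hn := mem_normalizer_iff.1 (normalizer_coreC hc')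
    constructor
    · rintro ⟨v, hv, rfl⟩
      exact ⟨_, (hn v).1 hv, by group⟩
    · rintro ⟨v, hv, hvu⟩
      refine ⟨g⁻¹ * u * g, (hn _).2 ?_, by group⟩
      have e : g⁻¹ * c * g * (g⁻¹ * u * g) * (g⁻¹ * c * g)⁻¹ = v :=
        calc _ = g⁻¹ * (c * u * c⁻¹) * g := by group
          _ = v := by rw [← hvu]; group
      rwa [e]
  · rw [card_map_of_injective (MulAut.conj g).injective]
    exact odd_card_coreC y

end Cfsg.Agent.LocalEven.CoreGen
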