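import Cfsg.Prelude.Def_Transfer
import Mathlib.RingTheory.AdjoinRoot
import Mathlib.FieldTheory.Finite.Basic
import Mathlib.FieldTheory.Separable
import Mathlib.LinearAlgebra.Dimension.Finite
import Mathlib.LinearAlgebra.FreeModule.Finite.Matrix
import Mathlib.Algebra.Module.ZMod
import Mathlib.GroupTheory.Index

/-!
Faithful modules for extraspecial groups in coprime characteristic.
-/

open Polynomial

namespace Cfsg.Agent.LocalEven.Extraspecial

set_option linter.unusedSectionVars false

/-- Scalars of modules with pairwise different eigen-systems give independent operators. -/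
theorem card_le_sq {E K W : Type*} [Group E] [Finite E] [Field K] [AddCommGroup W] [Module K W]
    [Finite W] [Nontrivial W] (ρ : E →* Module.End K W)
    (hscal : ∀ u ∈ Subgroup.center E, ∃ c : K, ρ u = c • (1 : Module.End K W))
    (hinj : ∀ u ∈ Subgroup.center E, ρ u = 1 → u = 1)
    (hcomm : commutator E ≤ Subgroup.center E) :
    Nat.card (E ⧸ Subgroup.center E) ≤ Module.finrank K W ^ 2 := by
  classical
  have : Module.Finite K W := Module.Finite.of_finite
  set T : E ⧸ Subgroup.center E → Module.End K W := fun q => ρ q.out with hT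
  have hcen : ∀ e a : E, e * a * e⁻¹ * a⁻¹ ∈ Subgroup.center E := fun e a => hcomm (by
    rw [commutator_def]
    exact Subgroup.commutator_mem_commutator (Subgroup.mem_top e) (Subgroup.mem_top a))
  choose c hc using fun e q => hscal _ (hcen e (q : E ⧸ Subgroup.center E).out)
  have hunit : ∀ a : E, ρ a * ρ a⁻¹ = 1 := fun a => by rw [← map_mul, mul_inv_cancel, map_one]
  have hconj : ∀ e q, ρ e * T q * ρ e⁻¹ = c e q • T q := fun e q => by
    have h := hc e q
    rw [map_mul] at h
    calc ρ e * T q * ρ e⁻¹ = ρ (e * q.out * e⁻¹ * q.out⁻¹) * T q := by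
          rw [hT]
          simp only [← map_mul]
          congr 1
          group
      _ = c e q • T q := by rw [map_mul, h, smul_mul_assoc, one_mul]
  have hsep : ∀ q q', q ≠ q' → ∃ e, c e q ≠ c e q' := by
    intro q q' hne
    by_contra hcon
    push Not at hcon
    apply hne
    rw [← Quotient.out_eq q, ← Quotient.out_eq q']
    refine QuotientGroup.eq.2 (Subgroup.mem_center_iff.2 fun e => ?_)
    have h1 : ρ (e * q.out * e⁻¹ * q.out⁻¹) = ρ (e * q'.out * e⁻¹ * q'.out⁻¹) := by
      rw [hc e q, hc e q', hcon e]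
    have h2 := hinj _ (mul_mem (inv_mem (hcen e q.out)) (hcen e q'.out))
      (by rw [map_mul, ← h1, ← map_mul, inv_mul_cancel, map_one])
    rw [inv_mul_eq_one] at h2
    have hu : e * q.out * e⁻¹ = (e * q.out * e⁻¹ * q.out⁻¹) * q.out := by group
    have hu' : e * q'.out * e⁻¹ = (e * q.out * e⁻¹ * q.out⁻¹) * q'.out := by rw [h2]; group
    have h6 : e * (q.out⁻¹ * q'.out) * e⁻¹ = q.out⁻¹ * q'.out :=
      calc e * (q.out⁻¹ * q'.out) * e⁻¹ = (e * q.out * e⁻¹)⁻¹ * (e * q'.out * e⁻¹) := by group
        _ = _ := by rw [hu', hu]; group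
    calc e * (q.out⁻¹ * q'.out) = (e * (q.out⁻¹ * q'.out) * e⁻¹) * e := by group
      _ = _ := by rw [h6]
  have hli : LinearIndependent K T := by
    rw [linearIndependent_iff']
    intro s
    induction s using Finset.induction with
    | empty => simp
    | @insert a s has ih =>
      intro g hsum
      rw [Finset.sum_insert has] at hsum
      have hzero : ∀ e, ∀ q ∈ s, g q * (c e q - c e a) = 0 := by
        intro e
        refine ih (fun q => g q * (c e q - c e a)) ?_
        have h1 : ρ e * (g a • T a + ∑ q ∈ s, g q • T q) * ρ e⁻¹ = 0 := by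
          rw [hsum, mul_zero, zero_mul]
        rw [mul_add, add_mul, Finset.mul_sum, Finset.sum_mul] at h1
        simp only [mul_smul_comm, smul_mul_assoc, hconj, smul_smul] at h1
        have h2 : c e a • (g a • T a + ∑ q ∈ s, g q • T q) = 0 := by rw [hsum, smul_zero]
        rw [smul_add, Finset.smul_sum] at h2
        simp only [smul_smul] at h2
        rw [mul_comm (c e a) (g a)] at h2
        have h3 := congrArg₂ (· - ·) h1 h2
        simp only [add_sub_add_left_eq_sub, sub_zero, ← Finset.sum_sub_distrib, ← sub_smul] at h3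
        convert h3 using 2 with q
        ring_nf
      have hs : ∀ q ∈ s, g q = 0 := fun q hq => by
        obtain ⟨e, he⟩ := hsep q a (fun h => has (h ▸ hq))
        exact (mul_eq_zero.1 (hzero e q hq)).resolve_right (sub_ne_zero.2 he)
      intro i hi
      rcases Finset.mem_insert.1 hi with rfl | hi
      · rw [Finset.sum_eq_zero (fun q hq => by rw [hs q hq, zero_smul]), add_zero, smul_eq_zero] at hsum
        refine hsum.resolve_right fun h => ?_
        exact one_ne_zero (α := Module.End K W) (by rw [← hunit i.out]; exact by rw [show ρ i.out = 0 from h, zero_mul])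
      · exact hs i hi
  have : Fintype (E ⧸ Subgroup.center E) := Fintype.ofFinite _
  have h := hli.fintype_card_le_finrank
  rw [Module.finrank_linearMap, ← pow_two] at h
  rwa [Nat.card_eq_fintype_card]

theorem card_bound {r p : ℕ} [Fact r.Prime] [Fact p.Prime] (hpr : p ≠ r) {E V : Type*} [Group E]
    [Finite E] [AddCommGroup V] [Module (ZMod r) V] [Finite V]
    (ρ : E →* Module.End (ZMod r) V) (hcen : Nat.card (Subgroup.center E) = p)
    (hcomm : commutator E ≤ Subgroup.center E) (hfaith : ∀ u ∈ Subgroup.center E, ρ u = 1 → u = 1)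
    {n w : ℕ} (hw : Nat.card (E ⧸ Subgroup.center E) = (p ^ w) ^ 2)
    (hmin : ∀ k : ℕ, 1 ≤ k → p ∣ r ^ k - 1 → n ≤ k) : r ^ (n * p ^ w) ≤ Nat.card V := by
  classical
  obtain ⟨⟨z, hz⟩, hz1⟩ : ∃ z : Subgroup.center E, z ≠ 1 := by
    have : Nontrivial (Subgroup.center E) :=
      Finite.one_lt_card_iff_nontrivial.1 (hcen ▸ (Fact.out : p.Prime).one_lt)
    exact exists_ne 1
  have hzp : z ^ p = 1 := by
    have := pow_card_eq_one' (x := (⟨z, hz⟩ : Subgroup.center E))
    rw [hcen] at this
    simpa [Subtype.ext_iff] using this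
  have hgen : ∀ u ∈ Subgroup.center E, ∃ k : ℕ, u = z ^ k := by
    intro u hu
    have h := mem_powers_of_prime_card (hp := ‹Fact p.Prime›) hcen hz1 (g' := (⟨u, hu⟩ : Subgroup.center E))
    obtain ⟨k, hk⟩ := h
    exact ⟨k, (congrArg Subtype.val hk).symm⟩
  set ζ := ρ z with hζ
  have hVne : Nontrivial (Module.End (ZMod r) V) :=
    ⟨⟨ρ z, 1, fun h => hz1 (Subtype.ext (hfaith z hz h))⟩⟩
  have hζp : ζ ^ p = 1 := by rw [hζ, ← map_pow, hzp, map_one]
  have hζ1 : ζ ≠ 1 := fun h => hz1 (Subtype.ext (hfaith z hz h))
  set m := minpoly (ZMod r) ζ with hm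
  have hint : IsIntegral (ZMod r) ζ := .of_finite _ ζ
  have hm0 : m ≠ 0 := minpoly.ne_zero hint
  have hdvd : m ∣ X ^ p - C 1 := minpoly.dvd _ _ (by simp [hζp])
  have hsq : Squarefree m := by
    refine Squarefree.squarefree_of_dvd hdvd (Separable.squarefree ?_)
    refine separable_X_pow_sub_C 1 ?_ one_ne_zero
    rw [Ne, ZMod.natCast_eq_zero_iff]
    exact fun h => hpr ((Nat.prime_dvd_prime_iff_eq Fact.out Fact.out).1 h).symm
  -- an irreducible factor other than `X - 1`
  obtain ⟨f, hf, hfm, hf1⟩ : ∃ f, Irreducible f ∧ f ∣ m ∧ ¬ Associated f (X - C 1) := by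
    by_contra hcon
    push Not at hcon
    have hall : ∀ g, g ∣ m → ¬ IsUnit g → (X - C 1) ∣ g := fun g hg hgu => by
      obtain ⟨q, hq, hqg⟩ := WfDvdMonoid.exists_irreducible_factor hgu (ne_zero_of_dvd_ne_zero hm0 hg)
      exact (hcon q hq (hqg.trans hg)).symm.dvd.trans hqg
    obtain ⟨g, hg⟩ := hall m dvd_rfl (minpoly.not_isUnit _ _)
    have hgu : IsUnit g := by
      by_contra hgu
      obtain ⟨g', hg'⟩ := hall g (Dvd.intro_left _ hg.symm) hgu
      have h2 : (X - C (1 : ZMod r)) * (X - C 1) ∣ m := ⟨g', by rw [hg, hg']; ring⟩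
      exact (irreducible_X_sub_C (1 : ZMod r)).not_isUnit (hsq _ h2)
    have h3 : aeval ζ (X - C (1 : ZMod r)) = 0 := by
      obtain ⟨u, rfl⟩ := hgu
      have h4 : X - C (1 : ZMod r) = m * ((u⁻¹ : ((ZMod r)[X])ˣ) : (ZMod r)[X]) := by rw [hg]; simp
      rw [h4, map_mul, minpoly.aeval, zero_mul]
    simp only [map_sub, aeval_X, aeval_C, map_one, sub_eq_zero] at h3
    exact hζ1 h3
  obtain ⟨g, hg⟩ := hfm
  set W := LinearMap.ker (aeval ζ f) with hW
  have hcζ : ∀ e : E, Commute (ρ e) ζ := fun e => by
    rw [hζ]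
    exact (show Commute e z from Subgroup.mem_center_iff.1 hz e).map ρ
  have hca : ∀ (e : E) (q : (ZMod r)[X]), ρ e * aeval ζ q = aeval ζ q * ρ e := by
    intro e q
    induction q using Polynomial.induction_on' with
    | add a b ha hb => rw [map_add, mul_add, add_mul, ha, hb]
    | monomial k a =>
      rw [aeval_monomial, ← Algebra.smul_def, mul_smul_comm, smul_mul_assoc, ((hcζ e).pow_right k).eq]
  have hinv : ∀ e : E, ∀ v ∈ W, ρ e v ∈ W := fun e v hv => by
    rw [hW, LinearMap.mem_ker] at hv ⊢
    rw [← Module.End.mul_apply, ← hca, Module.End.mul_apply, hv, map_zero]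
  have hWne : Nontrivial W := by
    rw [Submodule.nontrivial_iff_ne_bot]
    intro hbot
    have hg0 : aeval ζ g ≠ 0 := by
      intro h
      have h2 : m ∣ g := minpoly.dvd _ _ h
      have h3 : m ∣ g := h2
      obtain ⟨k, hk⟩ := h3
      have h4 : m * (f * k) = m * 1 := by rw [mul_one]; calc m * (f * k) = f * (m * k) := by ring
        _ = f * g := by rw [← hk]
        _ = m := hg.symm
      exact hf.not_isUnit (IsUnit.of_mul_eq_one _ (mul_left_cancel₀ hm0 h4))
    refine hg0 (LinearMap.ext fun v => ?_)
    have : aeval ζ g v ∈ W := by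
      rw [hW, LinearMap.mem_ker, ← Module.End.mul_apply, ← map_mul, ← hg, minpoly.aeval]
      rfl
    rwa [hbot, Submodule.mem_bot] at this
  have : Fact (Irreducible f) := ⟨hf⟩
  set ρW : E →* Module.End (ZMod r) W :=
    { toFun := fun e => (ρ e).restrict (hinv e)
      map_one' := by ext v; simp
      map_mul' := fun a b => by ext v; simp } with hρW
  set K := AdjoinRoot f
  have hroot : f.eval₂ ((Algebra.ofId (ZMod r) (Module.End (ZMod r) W)).toRingHom) (ρW z) = 0 := by
    change aeval (ρW z) f = 0
    ext v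
    have e : ((aeval (ρW z) f) v : V) = aeval ζ f (v : V) := by
      have key : ∀ q : (ZMod r)[X], ∀ u : W, ((aeval (ρW z) q) u : V) = aeval ζ q (u : V) := by
        intro q
        induction q using Polynomial.induction_on' with
        | add a b ha hb => intro u; simp [map_add, ha u, hb u]
        | monomial k a =>
          intro u
          rw [aeval_monomial, aeval_monomial, ← Algebra.smul_def, ← Algebra.smul_def]
          have hk : ∀ j : ℕ, (((ρW z) ^ j) u : V) = (ζ ^ j) (u : V) := by
            intro j
            induction j with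
            | zero => simp
            | succ j ih =>
              rw [pow_succ', pow_succ', Module.End.mul_apply, Module.End.mul_apply, ← ih]
              rfl
          simp [hk k]
      exact key f v
    rw [e]
    simpa using v.2
  let φ : K →+* Module.End (ZMod r) W :=
    Ideal.Quotient.lift (Ideal.span {f}) ((aeval (ρW z)).toRingHom) (fun q hq => by
      obtain ⟨t, rfl⟩ := Ideal.mem_span_singleton.1 hq
      have hroot' : aeval (ρW z) f = 0 := hroot
      change aeval (ρW z) (f * t) = 0
      rw [map_mul, hroot', zero_mul])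
  let _modK : Module K W := Module.compHom W φ
  have hsmul : ∀ (k : K) (v : W), k • v = φ k v := fun k v => rfl
  have hφmk : ∀ q : (ZMod r)[X], φ (AdjoinRoot.mk f q) = aeval (ρW z) q := fun q => rfl
  have hφroot : φ (AdjoinRoot.root f) = ρW z := (hφmk X).trans (aeval_X _)
  have hlin : ∀ (e : E) (k : K) (v : W), ρW e (k • v) = k • ρW e v := by
    intro e k v
    induction k using AdjoinRoot.induction_on with
    | ih q =>
      rw [hsmul, hsmul, hφmk]
      have : Commute (ρW e) (aeval (ρW z) q) := by
        induction q using Polynomial.induction_on' with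
        | add a b ha hb => rw [map_add]; exact ha.add_right hb
        | monomial j a =>
          rw [aeval_monomial, ← Algebra.smul_def]
          exact (((show Commute e z from Subgroup.mem_center_iff.1 hz e).map ρW).pow_right j).smul_right a
      exact congrFun (congrArg DFunLike.coe this.eq) v
  set ρK : E →* Module.End K W :=
    { toFun := fun e => { toFun := ρW e, map_add' := map_add _, map_smul' := hlin e }
      map_one' := by ext v; simp
      map_mul' := fun a b => by ext v; simp } with hρK
  have hρKz : ρK z = AdjoinRoot.root f • (1 : Module.End K W) := by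
    refine LinearMap.ext fun v => ?_
    rw [LinearMap.smul_apply, Module.End.one_apply, hsmul, hφroot]
    rfl
  have hfix : ∀ v : W, ρW z v = v → v = 0 := by
    intro v hv
    have h1 : ζ (v : V) = v := congrArg Subtype.val hv
    have h2 : aeval ζ f (v : V) = (f.eval 1) • (v : V) := by
      rcases eq_or_ne (v : V) 0 with h0 | h0
      · simp [h0]
      · have hpow : ∀ j : ℕ, (ζ ^ j) (v : V) = v := fun j => by
          induction j with
          | zero => simp
          | succ j ih => rw [pow_succ, Module.End.mul_apply, h1, ih]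
        rw [aeval_eq_sum_range, LinearMap.sum_apply, eval_eq_sum_range, Finset.sum_smul]
        exact Finset.sum_congr rfl fun j _ => by
          rw [LinearMap.smul_apply, hpow, one_pow, mul_one]
    have h3 : aeval ζ f (v : V) = 0 := v.2
    rw [h2, smul_eq_zero] at h3
    refine Subtype.ext (h3.resolve_left fun h => hf1 ?_)
    exact ((irreducible_X_sub_C (1 : ZMod r)).associated_of_dvd hf (dvd_iff_isRoot.2 h)).symm
  have hscal : ∀ u ∈ Subgroup.center E, ∃ c : K, ρK u = c • (1 : Module.End K W) := fun u hu => by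
    obtain ⟨k, rfl⟩ := hgen u hu
    exact ⟨AdjoinRoot.root f ^ k, by rw [map_pow, hρKz, smul_pow, one_pow]⟩
  have hne1 : ρK z ≠ 1 := fun h => by
    obtain ⟨v, hv⟩ := exists_ne (0 : W)
    exact hv (hfix v (congrFun (congrArg DFunLike.coe h) v))
  have hinj : ∀ u ∈ Subgroup.center E, ρK u = 1 → u = 1 := by
    intro u hu h
    by_contra hu1
    obtain ⟨k, hk⟩ := mem_powers_of_prime_card (hp := ‹Fact p.Prime›) hcen
      (g := (⟨u, hu⟩ : Subgroup.center E)) (fun h' => hu1 (congrArg Subtype.val h'))
      (g' := (⟨z, hz⟩ : Subgroup.center E))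
    have hk' : u ^ k = z := congrArg Subtype.val hk
    exact hne1 (by rw [← hk', map_pow, h, one_pow])
  have hle := card_le_sq ρK hscal hinj hcomm
  rw [hw] at hle
  have hD : p ^ w ≤ Module.finrank K W := (Nat.pow_le_pow_iff_left two_ne_zero).1 hle
  let pb := AdjoinRoot.powerBasis hf.ne_zero
  have : Module.Finite (ZMod r) K := pb.finite
  have : Finite K := Module.finite_of_finite (ZMod r)
  have hK : Nat.card K = r ^ f.natDegree := by
    rw [Module.natCard_eq_pow_finrank (K := ZMod r), Nat.card_zmod, pb.finrank, AdjoinRoot.powerBasis_dim]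
  have hn : n ≤ f.natDegree := by
    refine hmin _ hf.natDegree_pos ?_
    have : Fintype K := Fintype.ofFinite K
    have hrp : AdjoinRoot.root f ^ p = 1 := by
      obtain ⟨v, hv⟩ := exists_ne (0 : W)
      have h1 : ρK z ^ p = 1 := by rw [← map_pow, hzp, map_one]
      rw [hρKz, smul_pow, one_pow] at h1
      have h2 := congrFun (congrArg DFunLike.coe h1) v
      simp only [LinearMap.smul_apply, Module.End.one_apply] at h2
      exact smul_left_injective K hv (h2.trans (one_smul K v).symm)
    have hr1 : AdjoinRoot.root f ≠ 1 := fun h => hne1 (by rw [hρKz, h, one_smul])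
    have hr0 : AdjoinRoot.root f ≠ 0 := fun h => by
      rw [h, zero_pow (Fact.out : p.Prime).ne_zero] at hrp
      exact zero_ne_one hrp
    have horder := orderOf_eq_prime hrp hr1
    rw [← horder, ← hK, Nat.card_eq_fintype_card]
    exact orderOf_dvd_of_pow_eq_one (FiniteField.pow_card_sub_one_eq_one _ hr0)
  have : Module.Finite K W := Module.Finite.of_finite
  calc r ^ (n * p ^ w) ≤ r ^ (f.natDegree * Module.finrank K W) :=
        Nat.pow_le_pow_right (Fact.out : r.Prime).pos (Nat.mul_le_mul hn hD)
    _ = Nat.card W := by rw [pow_mul, ← hK, ← Module.natCard_eq_pow_finrank]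
    _ ≤ Nat.card V := Nat.card_le_card_of_injective _ Subtype.val_injective

/-- The same bound for an action by additive endomorphisms. -/
theorem card_bound_add {r p : ℕ} [Fact r.Prime] [Fact p.Prime] (hpr : p ≠ r) {E V : Type*} [Group E]
    [Finite E] [AddCommGroup V] [Finite V] (htor : ∀ x : V, r • x = 0)
    (c : E → V →+ V) (h1 : ∀ x, c 1 x = x) (hmul : ∀ a b x, c (a * b) x = c a (c b x))
    (hcen : Nat.card (Subgroup.center E) = p)
    (hcomm : commutator E ≤ Subgroup.center E)
    (hfaith : ∀ u ∈ Subgroup.center E, (∀ x, c u x = x) → u = 1)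
    {n w : ℕ} (hw : Nat.card (E ⧸ Subgroup.center E) = (p ^ w) ^ 2)
    (hmin : ∀ k : ℕ, 1 ≤ k → p ∣ r ^ k - 1 → n ≤ k) : r ^ (n * p ^ w) ≤ Nat.card V := by
  have hmodV : Module (ZMod r) V := AddCommGroup.zmodModule htor
  let ρ : E →* Module.End (ZMod r) V :=
    { toFun := fun e => AddMonoidHom.toZModLinearMap r (c e)
      map_one' := LinearMap.ext h1
      map_mul' := fun a b => LinearMap.ext (hmul a b) }
  exact card_bound hpr ρ hcen hcomm
    (fun u hu h => hfaith u hu fun x => congrFun (congrArg DFunLike.coe h) x) hw hmin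

/-- The same bound for an action on a commutative group of exponent `r`. -/
theorem card_bound' {r p : ℕ} [Fact r.Prime] [Fact p.Prime] (hpr : p ≠ r) {E A : Type*} [Group E]
    [Finite E] [CommGroup A] [Finite A] (htor : ∀ a : A, a ^ r = 1)
    (ρ : E →* MulAut A) (hcen : Nat.card (Subgroup.center E) = p)
    (hcomm : commutator E ≤ Subgroup.center E) (hfaith : ∀ u ∈ Subgroup.center E, ρ u = 1 → u = 1)
    {n w : ℕ} (hw : Nat.card (E ⧸ Subgroup.center E) = (p ^ w) ^ 2)
    (hmin : ∀ k : ℕ, 1 ≤ k → p ∣ r ^ k - 1 → n ≤ k) : r ^ (n * p ^ w) ≤ Nat.card A := by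
  refine le_of_le_of_eq (card_bound_add hpr (V := Additive A) (fun x => ?_)
    (fun e => MonoidHom.toAdditive (ρ e).toMonoidHom) ?_ ?_ hcen hcomm ?_ hw hmin)
    (Nat.card_congr Additive.toMul)
  · apply Additive.toMul.injective
    rw [toMul_nsmul, toMul_zero]
    exact htor _
  · intro x
    apply Additive.toMul.injective
    simp
  · intro a b x
    apply Additive.toMul.injective
    simp
  · exact fun u hu h => hfaith u hu (MulEquiv.ext fun a =>
      congrArg Additive.toMul (h (Additive.ofMul a)))

end Cfsg.Agent.LocalEven.Extraspecial
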