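import Cfsg.Agent.Lib.Wielandt
import Cfsg.Agent.Subnormal.Join
import Cfsg.Agent.Cores.Fitting
import Cfsg.Agent.Components.FStar
import Cfsg.Agent.Components.PComponent
import Cfsg.Agent.Transfer.Residual
import Cfsg.Agent.Modules.Fixed
import Cfsg.Prelude.Def_LocalEven

/-!
Structure of `p`-minimal groups.
-/

open Subgroup

namespace Cfsg.Agent.LocalEven.PMin

set_option linter.unusedSectionVars false

variable {P : Type*} [Group P] [Finite P] {p : ℕ} [Fact p.Prime]
  (hP : Cfsg.IsPMinimal p P) (S : Sylow p P) {M : Subgroup P} (hM : IsCoatom M)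
  (hSM : (S : Subgroup P) ≤ M)

include hP hM hSM

theorem le_of_ne_top {H : Subgroup P} (hS : (S : Subgroup P) ≤ H) (hne : H ≠ ⊤) : H ≤ M := by
  obtain ⟨N, -, huniq⟩ := (hP S).2
  obtain ⟨C, hC, hHC⟩ := (eq_top_or_exists_le_coatom H).resolve_left hne
  rw [huniq M ⟨hM, hSM⟩, ← huniq C ⟨hC, hS.trans hHC⟩]
  exact hHC

theorem eq_top_of_not_le {H : Subgroup P} (hS : (S : Subgroup P) ≤ H) (h : ¬ H ≤ M) : H = ⊤ :=
  by_contra fun hne => h (le_of_ne_top hP S hM hSM hS hne)

theorem inf_le_pCore_of_normal {N : Subgroup P} [N.Normal] (hN : N ≤ M) :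
    N ⊓ (S : Subgroup P) ≤ Cfsg.pCore p P := by
  obtain ⟨Q, hQ⟩ := SubnormalLib.exists_sylow_inf (Normal.isSubnormal ‹N.Normal›) S
  have hmap : (Q : Subgroup N).map N.subtype = N ⊓ (S : Subgroup P) := by
    rw [hQ, subgroupOf, map_comap_eq, range_subtype]
  have htop := Sylow.normalizer_sup_eq_top Q
  rw [hmap] at htop
  have hnorm : normalizer ((N ⊓ (S : Subgroup P) : Subgroup P) : Set P) = ⊤ := by
    refine eq_top_of_not_le hP S hM hSM ?_ fun hle => hM.1 ?_
    · exact fun s hs => inf_normalizer_le_normalizer_inf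
        ⟨by rw [normalizer_eq_top]; exact mem_top s, le_normalizer hs⟩
    · rw [← top_le_iff, ← htop]
      exact sup_le hle hN
  exact Cores.le_pCore (normalizer_eq_top_iff.1 hnorm) (S.2.to_le inf_le_right)

theorem inf_le_pCore_of_subnormal {N : Subgroup P} (hN : N.IsSubnormal) (hle : N ≤ M) :
    N ⊓ (S : Subgroup P) ≤ Cfsg.pCore p P :=
  (inf_le_inf_right _ (Wielandt.le_normalCore_of_isCoatom hM hN hle)).trans
    (inf_le_pCore_of_normal hP S hM hSM M.normalCore_le)

theorem pResidual_le_or_le_core {N : Subgroup P} [N.Normal] :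
    Cfsg.pResidual p P ≤ N ∨ N ≤ M.normalCore := by
  by_cases h : N ≤ M
  · exact Or.inr (normal_le_normalCore.2 h)
  refine Or.inl ?_
  have htop := eq_top_of_not_le hP S hM hSM (H := (S : Subgroup P) ⊔ N) le_sup_left
    fun hle => h (le_sup_right.trans hle)
  refine Transfer.pResidual_le_of_isPGroup_quotient N ?_
  refine S.2.of_surjective ((QuotientGroup.mk' N).comp (S : Subgroup P).subtype) ?_
  intro x
  obtain ⟨g, rfl⟩ := QuotientGroup.mk'_surjective N x
  obtain ⟨s, hs, n, hn, rfl⟩ := mem_sup_of_normal_right.1 (htop.symm ▸ mem_top g)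
  refine ⟨⟨s, hs⟩, ?_⟩
  simp [(QuotientGroup.eq_one_iff n).2 hn]

theorem pResidual_not_le : ¬ Cfsg.pResidual p P ≤ M := fun h => hM.1 (top_le_iff.1
  ((Transfer.pResidual_sup_sylow S).symm.le.trans (sup_le h hSM)))

theorem core_lt_pResidual_sup : M.normalCore < Cfsg.pResidual p P ⊔ M.normalCore :=
  right_lt_sup.2 fun h => pResidual_not_le hP S hM hSM (h.trans M.normalCore_le)

omit hP hM hSM in
/-- If `N(Q)` covers `P` modulo the normal `K` and contains the `p`-part of `K`, then it contains
a Sylow `p`-subgroup of `P`. -/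
theorem exists_conj_le_normalizer {K X : Subgroup P} [K.Normal]
    (htop : normalizer (X : Set P) ⊔ K = ⊤)
    (hK : ¬ p ∣ (normalizer (X : Set P) ⊓ K).relIndex K) :
    ∃ g : P, (S : Subgroup P) ≤ normalizer ((X.map (MulAut.conj g).toMonoidHom : Subgroup P) : Set P) := by
  set N := normalizer (X : Set P) with hN
  have hcard := Modules.card_sup_mul_card_inf (B := N) (V := K)
    (by rw [normalizer_eq_top]; exact le_top)
  rw [htop, card_top] at hcard
  have h2 := Modules.card_mul_relIndex_of_le (inf_le_right : N ⊓ K ≤ K)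
  rw [← h2, mul_left_comm, mul_comm (Nat.card P)] at hcard
  have hP' : Nat.card P = Nat.card N * (N ⊓ K).relIndex K :=
    Nat.eq_of_mul_eq_mul_left Nat.card_pos hcard
  have hdvd : p ^ (Nat.card P).factorization p ∣ Nat.card N := by
    refine (Nat.Coprime.pow_left _ ((Fact.out : p.Prime).coprime_iff_not_dvd.2 hK)).dvd_of_dvd_mul_right ?_
    rw [← hP']
    exact Nat.ordProj_dvd _ _
  obtain ⟨U, hU⟩ := Sylow.exists_subgroup_card_pow_prime p (G := ↥N) hdvd
  have hU' : Nat.card ↥(U.map N.subtype) = p ^ (Nat.card P).factorization p := by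
    rw [card_map_of_injective N.subtype_injective, hU]
  obtain ⟨g, hg⟩ := MulAction.exists_smul_eq P (Sylow.ofCard (U.map N.subtype) hU') S
  refine ⟨g, fun s hs => ?_⟩
  rw [← hg, Sylow.coe_subgroup_smul, Sylow.coe_ofCard] at hs
  obtain ⟨u, hu, rfl⟩ := hs
  have hun : u ∈ N := map_subtype_le U hu
  have := le_normalizer_map (H := X) (MulAut.conj g).toMonoidHom ⟨u, hun, rfl⟩
  exact this

theorem primeFactors_card_le (hnormal : ∀ T : Sylow p ↥(Cfsg.pResidual p P),
    (T : Subgroup ↥(Cfsg.pResidual p P)).Normal) : (Nat.card P).primeFactors.card ≤ 2 := by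
  by_contra hlt
  set K := Cfsg.pResidual p P with hKdef
  obtain ⟨T⟩ : Nonempty (Sylow p ↥K) := inferInstance
  set T' := (T : Subgroup ↥K).map K.subtype with hT'
  have hTn : T'.Normal := by
    have := Sylow.characteristic_of_normal T (hnormal T)
    exact Cores.normal_map_subtype_of_characteristic (N := K) (T : Subgroup ↥K)
  have hpart : ∀ q : ℕ, q.Prime → q ^ (Nat.card P).factorization q ∣ Nat.card M := by
    intro q hq
    by_cases hqp : q = p
    · subst hqp
      rw [← Sylow.card_eq_multiplicity S]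
      exact card_dvd_of_le hSM
    have : Fact q.Prime := ⟨hq⟩
    obtain ⟨Q⟩ : Nonempty (Sylow q ↥K) := inferInstance
    set Qm := (Q : Subgroup ↥K).map K.subtype with hQm
    set X := T' ⊔ Qm with hX
    have hNle : normalizer (Qm : Set P) ≤ normalizer (X : Set P) := fun n hn =>
      normalizer_inf_normalizer_le_normalizer_sup T' Qm
        ⟨by rw [normalizer_eq_top]; exact mem_top n, hn⟩
    have htop : normalizer (X : Set P) ⊔ K = ⊤ :=
      top_le_iff.1 ((Sylow.normalizer_sup_eq_top Q).symm.le.trans (sup_le_sup_right hNle _))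
    have hpK : ¬ p ∣ (normalizer (X : Set P) ⊓ K).relIndex K := by
      intro h
      have hle : T' ≤ normalizer (X : Set P) ⊓ K :=
        le_inf ((le_sup_left : T' ≤ X).trans le_normalizer) (map_subtype_le _)
      have h3 := h.trans (relIndex_dvd_of_le_left K hle)
      rw [hT', relIndex, subgroupOf, comap_map_eq_self_of_injective K.subtype_injective] at h3
      exact T.not_dvd_index h3
    obtain ⟨g, hg⟩ := exists_conj_le_normalizer S htop hpK
    set X' := X.map (MulAut.conj g).toMonoidHom with hX'
    obtain ⟨n, hn⟩ := Transfer.exists_index_pResidual_eq_pow (p := p) (G := P)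
    have hvq : (Nat.card P).factorization q = (Nat.card K).factorization q := by
      rw [← card_mul_index K, hn, Nat.factorization_mul Nat.card_pos.ne'
        (pow_ne_zero _ (Fact.out : p.Prime).ne_zero), Nat.Prime.factorization_pow Fact.out]
      simp [Finsupp.single_eq_of_ne hqp]
    have hQcard : Nat.card Qm = q ^ (Nat.card P).factorization q := by
      rw [hQm, card_map_of_injective K.subtype_injective, Sylow.card_eq_multiplicity Q, hvq]
    have hne : (S : Subgroup P) ⊔ X' ≠ ⊤ := by
      intro h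
      have h1 : Nat.card P ∣ Nat.card ↥(S : Subgroup P) * Nat.card X' := by
        rw [← Modules.card_sup_mul_card_inf hg, h, card_top]
        exact dvd_mul_right _ _
      have h2 : Nat.card X' ∣ Nat.card T' * Nat.card Qm := by
        rw [hX', card_map_of_injective (f := (MulAut.conj g).toMonoidHom) (MulAut.conj g).injective, hX, sup_comm,
          mul_comm (Nat.card T'),
          ← Modules.card_sup_mul_card_inf (B := Qm) (V := T') (by rw [normalizer_eq_top]; exact le_top)]
        exact dvd_mul_right _ _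
      have hsub : (Nat.card P).primeFactors ⊆ {p, q} := by
        intro r hr
        obtain ⟨hrp, hrd, -⟩ := Nat.mem_primeFactors.1 hr
        have h4 := hrd.trans (h1.trans (mul_dvd_mul_left _ h2))
        rw [hT', card_map_of_injective K.subtype_injective, Sylow.card_eq_multiplicity T,
          Sylow.card_eq_multiplicity S, hQcard] at h4
        rw [Finset.mem_insert, Finset.mem_singleton]
        have key : ∀ {b k : ℕ}, b.Prime → r ∣ b ^ k → r = b := fun hb h =>
          (Nat.prime_dvd_prime_iff_eq hrp hb).1 (hrp.dvd_of_dvd_pow h)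
        rcases hrp.dvd_mul.1 h4 with h5 | h5
        · exact Or.inl (key Fact.out h5)
        rcases hrp.dvd_mul.1 h5 with h6 | h6
        · exact Or.inl (key Fact.out h6)
        · exact Or.inr (key hq h6)
      exact hlt ((Finset.card_le_card hsub).trans Finset.card_le_two)
    have hle := le_of_ne_top hP S hM hSM le_sup_left hne
    rw [← hQcard, ← card_map_of_injective (f := (MulAut.conj g).toMonoidHom) (MulAut.conj g).injective (K := Qm)]
    exact card_dvd_of_le (((map_mono le_sup_right).trans le_sup_right).trans hle)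
  have hcard : Nat.card P ∣ Nat.card M := by
    rw [Nat.dvd_iff_prime_pow_dvd_dvd]
    intro q k hq hk
    exact (pow_dvd_pow q ((hq.pow_dvd_iff_le_factorization Nat.card_pos.ne').1 hk)).trans (hpart q hq)
  exact hM.1 (eq_top_of_card_eq M (Nat.dvd_antisymm (card_subgroup_dvd_card M) hcard))

/-- A normal `p'`-subgroup of a `p`-minimal group is nilpotent. -/
theorem isNilpotent_of_normal_pprime {N : Subgroup P} [N.Normal] (hN : ¬ p ∣ Nat.card N) :
    Group.IsNilpotent N := by
  have hconj : ∀ {q : ℕ} [Fact q.Prime] (Q : Sylow q ↥N), ∃ g : P, (S : Subgroup P) ≤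
      normalizer ((((Q : Subgroup ↥N).map N.subtype).map (MulAut.conj g).toMonoidHom : Subgroup P) : Set P) := by
    intro q _ Q
    exact exists_conj_le_normalizer S (Sylow.normalizer_sup_eq_top Q)
      fun h => hN (h.trans (relIndex_dvd_card _ _))
  have hgle : ∀ {q : ℕ} (Q : Sylow q ↥N) (g : P),
      ((Q : Subgroup ↥N).map N.subtype).map (MulAut.conj g).toMonoidHom ≤ N := fun Q g => by
    rintro _ ⟨_, ⟨x, -, rfl⟩, rfl⟩
    exact (inferInstance : N.Normal).conj_mem x x.2 g
  by_cases hNM : N ≤ M
  · refine ((Group.isNilpotent_of_finite_tfae (G := ↥N)).out 0 3).2 ?_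
    intro q hq Q
    obtain ⟨g, hg⟩ := hconj Q
    set Q' := ((Q : Subgroup ↥N).map N.subtype).map (MulAut.conj g).toMonoidHom with hQ'
    have hcard : Nat.card ↥(Q'.subgroupOf N) = q ^ (Nat.card ↥N).factorization q := by
      rw [Nat.card_congr (subgroupOfEquivOfLe (hgle Q g)).toEquiv,
        card_map_of_injective (f := (MulAut.conj g).toMonoidHom) (MulAut.conj g).injective,
        card_map_of_injective N.subtype_injective, Sylow.card_eq_multiplicity Q]
    let Q₂ : Sylow q ↥N := Sylow.ofCard _ hcard
    have htop := Sylow.normalizer_sup_eq_top Q₂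
    rw [Sylow.coe_ofCard, map_subgroupOf_eq_of_le (hgle Q g)] at htop
    have hn : normalizer (Q' : Set P) = ⊤ := eq_top_of_not_le hP S hM hSM hg fun hle =>
      hM.1 (top_le_iff.1 (htop.symm.le.trans (sup_le hle hNM)))
    have hQ₂n : (Q₂ : Subgroup ↥N).Normal := by
      rw [Sylow.coe_ofCard]
      exact (normalizer_eq_top_iff.1 hn).comap _
    obtain ⟨h, hh⟩ := MulAction.exists_smul_eq ↥N Q₂ Q
    rw [← hh, Sylow.smul_eq_of_normal]
    exact hQ₂n
  · -- some Sylow subgroup is the whole of `N`
    obtain ⟨q, hq, Q, g, hg, hQM⟩ : ∃ (q : ℕ) (_ : Fact q.Prime) (Q : Sylow q ↥N) (g : P),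
        (S : Subgroup P) ≤ normalizer ((((Q : Subgroup ↥N).map N.subtype).map
          (MulAut.conj g).toMonoidHom : Subgroup P) : Set P) ∧
        ¬ ((Q : Subgroup ↥N).map N.subtype).map (MulAut.conj g).toMonoidHom ≤ M := by
      by_contra hcon
      push Not at hcon
      refine hNM ?_
      have key : Nat.card N ∣ Nat.card ↥(M ⊓ N : Subgroup P) := by
        rw [Nat.dvd_iff_prime_pow_dvd_dvd]
        intro q k hq hk
        have : Fact q.Prime := ⟨hq⟩
        obtain ⟨Q⟩ : Nonempty (Sylow q ↥N) := inferInstance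
        obtain ⟨g, hg⟩ := hconj Q
        refine (pow_dvd_pow q ((hq.pow_dvd_iff_le_factorization Nat.card_pos.ne').1 hk)).trans ?_
        rw [← Sylow.card_eq_multiplicity Q, ← card_map_of_injective N.subtype_injective (K := (Q : Subgroup ↥N)),
          ← card_map_of_injective (f := (MulAut.conj g).toMonoidHom) (MulAut.conj g).injective (K := (Q : Subgroup ↥N).map N.subtype)]
        exact card_dvd_of_le (le_inf (hcon q ⟨hq⟩ Q g hg) (hgle Q g))
      have := eq_of_le_of_card_ge (inf_le_right : M ⊓ N ≤ N) (Nat.le_of_dvd Nat.card_pos key)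
      exact inf_eq_right.1 this
    set Q' := ((Q : Subgroup ↥N).map N.subtype).map (MulAut.conj g).toMonoidHom with hQ'
    have htop := eq_top_of_not_le hP S hM hSM (H := (S : Subgroup P) ⊔ Q') le_sup_left
      fun hle => hQM (le_sup_right.trans hle)
    have h1 : Nat.card N ∣ Nat.card ↥(S : Subgroup P) * Nat.card Q' := by
      refine (card_subgroup_dvd_card N).trans ?_
      rw [← Modules.card_sup_mul_card_inf hg, htop, card_top]
      exact dvd_mul_right _ _
    have hco : (Nat.card N).Coprime (Nat.card ↥(S : Subgroup P)) := by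
      rw [Sylow.card_eq_multiplicity S]
      exact ((Fact.out : p.Prime).coprime_iff_not_dvd.2 hN).symm.pow_right _
    have h2 := hco.dvd_of_dvd_mul_left h1
    rw [card_map_of_injective (f := (MulAut.conj g).toMonoidHom) (MulAut.conj g).injective,
      card_map_of_injective N.subtype_injective] at h2
    have htopQ : (Q : Subgroup ↥N) = ⊤ :=
      eq_top_of_card_eq _ (Nat.dvd_antisymm (card_subgroup_dvd_card _) h2)
    have hp' : IsPGroup q ↥(⊤ : Subgroup ↥N) := htopQ ▸ Q.2
    exact (hp'.of_equiv topEquiv).isNilpotent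

end Cfsg.Agent.LocalEven.PMin
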