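import Cfsg.Agent.H4.QuaternionSection
import Cfsg.Agent.Coprime.Generation
import Cfsg.Agent.Modules.Fixed
import Cfsg.Agent.PGroup.Extraspecial
import Mathlib.GroupTheory.SemidirectProduct

/-!
Coprime abelian automorphism groups of 2-groups with one involution in every fixed-point group.
-/

set_option autoImplicit false

namespace Cfsg.Agent.LocalEven.QuatFixed

variable {G : Type*} [Group G]

/-- The fixed points of `a` in `W`. -/
abbrev fixOf (W : Subgroup G) (a : G) : Subgroup G := W ⊓ Subgroup.centralizer ({a} : Set G)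

theorem mem_fixOf {W : Subgroup G} {a x : G} : x ∈ fixOf W a ↔ x ∈ W ∧ a * x * a⁻¹ = x := by
  rw [Subgroup.mem_inf, Subgroup.mem_centralizer_singleton_iff, mul_inv_eq_iff_eq_mul]
  exact and_congr_right fun _ => eq_comm

/-- The setting. -/
structure Ctx (W E : Subgroup G) (p : ℕ) : Prop where
  prime : p.Prime
  odd : p ≠ 2
  hW : IsPGroup 2 W
  hE : IsPGroup p E
  comm : ∀ a ∈ E, ∀ b ∈ E, a * b = b * a
  norm : E ≤ Subgroup.normalizer (W : Set G)
  faithful : ∀ a ∈ E, (∀ x ∈ W, a * x * a⁻¹ = x) → a = 1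
  noncyclic : ¬ IsCyclic E
  uniq : ∀ a ∈ E, a ≠ 1 → ∀ x ∈ fixOf W a, ∀ y ∈ fixOf W a, orderOf x = 2 → orderOf y = 2 → x = y

variable [Finite G] {W E : Subgroup G} {p : ℕ}

theorem Ctx.odd_orderOf (c : Ctx W E p) {g : G} (hg : g ∈ E) : Odd (orderOf g) := by
  haveI : Fact p.Prime := ⟨c.prime⟩
  obtain ⟨k, hk⟩ := IsPGroup.iff_orderOf.1 c.hE ⟨g, hg⟩
  rw [Subgroup.orderOf_mk] at hk
  rw [hk]
  exact (c.prime.odd_of_ne_two c.odd).pow

theorem Ctx.mul_fix (c : Ctx W E p) {a g x : G} (ha : a ∈ E) (hg : g ∈ E) (hx : x ∈ fixOf W a) :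
    g * x * g⁻¹ ∈ fixOf W a := by
  rw [mem_fixOf] at hx ⊢
  refine ⟨(Subgroup.mem_normalizer_iff.1 (c.norm hg) x).1 hx.1, ?_⟩
  calc a * (g * x * g⁻¹) * a⁻¹ = (a * g) * x * (a * g)⁻¹ := by group
    _ = (g * a) * x * (g * a)⁻¹ := by rw [c.comm a ha g hg]
    _ = g * (a * x * a⁻¹) * g⁻¹ := by group
    _ = g * x * g⁻¹ := by rw [hx.2]

theorem Ctx.coprime_card (c : Ctx W E p) {V : Subgroup G} (hV : V ≤ W) :
    (Nat.card E).Coprime (Nat.card V) := by
  haveI : Fact p.Prime := ⟨c.prime⟩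
  haveI : Fact (Nat.Prime 2) := ⟨Nat.prime_two⟩
  obtain ⟨n, hn⟩ := IsPGroup.iff_card.1 c.hE
  obtain ⟨m, hm⟩ := IsPGroup.iff_card.1 (c.hW.to_le hV)
  rw [hn, hm]
  exact Nat.Coprime.pow n m ((Nat.coprime_primes c.prime Nat.prime_two).2 c.odd)

/-- Generation of an invariant subgroup by fixed points. -/
theorem Ctx.le_of_fix_le (c : Ctx W E p) {V X : Subgroup G} (hV : V ≤ W)
    (hn : E ≤ Subgroup.normalizer (V : Set G))
    (h : ∀ a ∈ E, a ≠ 1 → V ⊓ fixOf W a ≤ X) : V ≤ X := by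
  haveI : IsMulCommutative E := ⟨⟨fun a b => Subtype.ext (c.comm a a.2 b b.2)⟩⟩
  rw [← Coprime.iSup_centralizer_eq c.noncyclic hn (c.coprime_card hV)]
  exact iSup₂_le fun a ha => le_trans (le_inf inf_le_left (inf_le_inf_right _ hV)) (h a ha.1 ha.2)

theorem Ctx.exists_ne (c : Ctx W E p) : ∃ a ∈ E, a ≠ 1 := by
  by_contra hcon
  push Not at hcon
  refine c.noncyclic ?_
  rw [(Subgroup.eq_bot_iff_forall _).2 hcon]
  infer_instance

/-- The common involution. -/
theorem Ctx.exists_z (c : Ctx W E p) : ∃ z ∈ W, z * z = 1 ∧ z ≠ 1 ∧ (∀ w ∈ W, w * z = z * w) ∧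
    (∀ g ∈ E, g * z * g⁻¹ = z) ∧
    ∀ a ∈ E, a ≠ 1 → ∀ x ∈ fixOf W a, x * x = 1 → x = 1 ∨ x = z := by
  haveI : Fact (Nat.Prime 2) := ⟨Nat.prime_two⟩
  haveI : Nontrivial W := by
    rw [Subgroup.nontrivial_iff_ne_bot]
    intro hb
    obtain ⟨a, ha, ha1⟩ := c.exists_ne
    refine ha1 (c.faithful a ha fun x hx => ?_)
    rw [Subgroup.mem_bot.1 (hb ▸ hx : x ∈ (⊥ : Subgroup G))]
    group
  set Ω : Subgroup G :=
    { carrier := {x | x ∈ W ∧ x * x = 1 ∧ ∀ w ∈ W, w * x = x * w}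
      one_mem' := ⟨one_mem _, mul_one 1, fun w _ => by simp⟩
      mul_mem' := fun {a b} ha hb => ⟨mul_mem ha.1 hb.1, by
          calc a * b * (a * b) = a * (b * a) * b := by group
            _ = a * (a * b) * b := by rw [← hb.2.2 a ha.1]
            _ = (a * a) * (b * b) := by group
            _ = 1 := by rw [ha.2.1, hb.2.1, one_mul],
        fun w hw => by
          rw [← mul_assoc, ha.2.2 w hw, mul_assoc, hb.2.2 w hw, ← mul_assoc]⟩
      inv_mem' := fun {a} ha => by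
        have e : a⁻¹ = a := inv_eq_of_mul_eq_one_right ha.2.1
        rw [e]; exact ha } with hΩdef
  have hΩn : E ≤ Subgroup.normalizer (Ω : Set G) := by
    intro g hg
    rw [Subgroup.mem_normalizer_iff_map_conj_eq]
    refine Subgroup.eq_of_le_of_card_ge ?_
      (Subgroup.card_map_of_injective (f := (MulAut.conj g).toMonoidHom)
        (MulAut.conj g).injective).ge
    rintro _ ⟨x, ⟨hx1, hx2, hx3⟩, rfl⟩
    refine ⟨(Subgroup.mem_normalizer_iff.1 (c.norm hg) x).1 hx1, ?_, fun w hw => ?_⟩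
    · change g * x * g⁻¹ * (g * x * g⁻¹) = 1
      calc g * x * g⁻¹ * (g * x * g⁻¹) = g * (x * x) * g⁻¹ := by group
        _ = 1 := by rw [hx2]; group
    · change w * (g * x * g⁻¹) = g * x * g⁻¹ * w
      have hw' : g⁻¹ * w * g ∈ W := by
        have := (Subgroup.mem_normalizer_iff.1 (inv_mem (c.norm hg)) w).1 hw
        rwa [inv_inv] at this
      calc w * (g * x * g⁻¹) = g * ((g⁻¹ * w * g) * x) * g⁻¹ := by group
        _ = _ := by rw [hx3 _ hw']; group
  have hΩW : Ω ≤ W := fun x hx => hx.1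
  have hord : ∀ x : G, x * x = 1 → x ≠ 1 → orderOf x = 2 := fun x h h1 =>
    orderOf_eq_prime (by rwa [pow_two]) h1
  have hfixE : ∀ g ∈ E, ∀ x ∈ Ω, g * x * g⁻¹ = x := by
    intro g hg
    suffices Ω ≤ Subgroup.centralizer ({g} : Set G) from fun x hx => by
      rw [mul_inv_eq_iff_eq_mul]
      exact (Subgroup.mem_centralizer_singleton_iff.1 (this hx)).symm
    refine c.le_of_fix_le hΩW hΩn fun a ha ha1 x hx => ?_
    refine Subgroup.mem_centralizer_singleton_iff.2 (mul_inv_eq_iff_eq_mul.1 ?_).symm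
    by_cases hx1 : x = 1
    · rw [hx1]; group
    exact c.uniq a ha ha1 _ (c.mul_fix ha hg hx.2) x hx.2
      (hord _ (by
        calc g * x * g⁻¹ * (g * x * g⁻¹) = g * (x * x) * g⁻¹ := by group
          _ = 1 := by rw [hx.1.2.1]; group) fun e => hx1 (conj_eq_one_iff.1 e))
      (hord x hx.1.2.1 hx1)
  obtain ⟨u, -, huc, huo⟩ := TwoGroups.exists_central_involution_of_normal c.hW
    (⊤ : Subgroup W) (by simp)
  have huo' : orderOf (u : G) = 2 := (Subgroup.orderOf_coe u).trans huo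
  have hu2 : (u : G) * u = 1 := by
    rw [← pow_two, ← huo']; exact pow_orderOf_eq_one _
  have hu1 : (u : G) ≠ 1 := fun e => by rw [e, orderOf_one] at huo'; omega
  have huΩ : (u : G) ∈ Ω := ⟨u.2, hu2, fun w hw =>
    congrArg Subtype.val (Subgroup.mem_center_iff.1 huc ⟨w, hw⟩)⟩
  refine ⟨u, u.2, hu2, hu1, huΩ.2.2, fun g hg => hfixE g hg _ huΩ, fun a ha ha1 x hx hx2 => ?_⟩
  by_cases hx1 : x = 1
  · exact Or.inl hx1
  exact Or.inr (c.uniq a ha ha1 x hx u (mem_fixOf.2 ⟨u.2, hfixE a ha _ huΩ⟩) (hord x hx2 hx1) huo')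

/-- The fixed involution. -/
noncomputable def Ctx.z (c : Ctx W E p) : G := c.exists_z.choose

theorem Ctx.z_mem (c : Ctx W E p) : c.z ∈ W := c.exists_z.choose_spec.1

theorem Ctx.z_sq (c : Ctx W E p) : c.z * c.z = 1 := c.exists_z.choose_spec.2.1

theorem Ctx.z_ne (c : Ctx W E p) : c.z ≠ 1 := c.exists_z.choose_spec.2.2.1

theorem Ctx.z_comm (c : Ctx W E p) {w : G} (hw : w ∈ W) : w * c.z = c.z * w :=
  c.exists_z.choose_spec.2.2.2.1 w hw

theorem Ctx.z_fix (c : Ctx W E p) {g : G} (hg : g ∈ E) : g * c.z * g⁻¹ = c.z :=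
  c.exists_z.choose_spec.2.2.2.2.1 g hg

theorem Ctx.eq_z (c : Ctx W E p) {a : G} (ha : a ∈ E) (ha1 : a ≠ 1) {x : G} (hx : x ∈ fixOf W a)
    (h2 : x * x = 1) : x = 1 ∨ x = c.z := c.exists_z.choose_spec.2.2.2.2.2 a ha ha1 x hx h2

theorem Ctx.z_fixOf (c : Ctx W E p) {a : G} (ha : a ∈ E) : c.z ∈ fixOf W a :=
  mem_fixOf.2 ⟨c.z_mem, c.z_fix ha⟩

/-- `a` is moved: some element of `E` acts nontrivially on its fixed points. -/
def Moved (W E : Subgroup G) (a : G) : Prop :=
  a ∈ E ∧ a ≠ 1 ∧ ∃ g ∈ E, ∃ x ∈ fixOf W a, g * x * g⁻¹ ≠ x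

theorem Ctx.quat (c : Ctx W E p) {a : G} (h : Moved W E a) :
    Nonempty (↥(fixOf W a) ≃* QuaternionGroup 2) := by
  obtain ⟨ha, ha1, g, hg, x, hx, hne⟩ := h
  refine H4.equiv_quaternion_two (c.hW.to_le inf_le_left) (c.uniq a ha ha1) (g := g) ?_ ?_ ?_
  · rw [Subgroup.mem_normalizer_iff_map_conj_eq]
    refine Subgroup.eq_of_le_of_card_ge ?_
      (Subgroup.card_map_of_injective (f := (MulAut.conj g).toMonoidHom)
        (MulAut.conj g).injective).ge
    rintro _ ⟨y, hy, rfl⟩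
    exact c.mul_fix ha hg hy
  · exact Nat.coprime_two_right.2 (c.odd_orderOf hg)
  · intro hc
    exact hne (by rw [← Subgroup.mem_centralizer_iff.1 hc x hx, mul_inv_cancel_right])

theorem Ctx.card_fix (c : Ctx W E p) {a : G} (h : Moved W E a) :
    Nat.card ↥(fixOf W a) = 8 := by
  obtain ⟨e⟩ := c.quat h
  rw [Nat.card_congr e.toEquiv, Nat.card_eq_fintype_card]
  decide

theorem Ctx.pow_four (c : Ctx W E p) {a : G} (h : Moved W E a) {x : G} (hx : x ∈ fixOf W a) :
    x * x = 1 ∨ x * x = c.z := by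
  obtain ⟨e⟩ := c.quat h
  have h4 : ∀ y : QuaternionGroup 2, y * y * (y * y) = 1 := by decide
  refine c.eq_z h.1 h.2.1 (mul_mem hx hx) ?_
  have := h4 (e ⟨x, hx⟩)
  rw [← map_mul, ← map_mul, ← e.map_one, e.injective.eq_iff] at this
  exact congrArg Subtype.val this

theorem Ctx.center_fix (c : Ctx W E p) {a : G} (h : Moved W E a) {x : G} (hx : x ∈ fixOf W a)
    (hc : ∀ y ∈ fixOf W a, x * y = y * x) : x = 1 ∨ x = c.z := by
  obtain ⟨e⟩ := c.quat h
  have h4 : ∀ y : QuaternionGroup 2, (∀ w, y * w = w * y) → y * y = 1 := by decide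
  refine c.eq_z h.1 h.2.1 hx ?_
  have := h4 (e ⟨x, hx⟩) fun w => by
    obtain ⟨v, rfl⟩ := e.surjective w
    rw [← map_mul, ← map_mul]
    exact congrArg e (Subtype.ext (hc v v.2))
  rw [← map_mul, ← e.map_one, e.injective.eq_iff] at this
  exact congrArg Subtype.val this

omit [Finite G] in
theorem eq_one_of_conj_mul {g y h : G} (ho : Odd (orderOf g)) (hy : g * y * g⁻¹ = y * h)
    (hh : g * h * g⁻¹ = h) (h4 : h * h * (h * h) = 1) : h = 1 := by
  have hk : ∀ n : ℕ, g ^ n * y * (g ^ n)⁻¹ = y * h ^ n := by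
    intro n
    induction n with
    | zero => simp
    | succ n ih =>
      have e : Commute g h := mul_inv_eq_iff_eq_mul.1 hh
      calc g ^ (n + 1) * y * (g ^ (n + 1))⁻¹ = g * (g ^ n * y * (g ^ n)⁻¹) * g⁻¹ := by
            rw [pow_succ']; group
        _ = g * (y * h ^ n) * g⁻¹ := by rw [ih]
        _ = (g * y * g⁻¹) * (g * h ^ n * g⁻¹) := by group
        _ = y * h ^ (n + 1) := by
            rw [hy, (e.pow_right n).eq, mul_inv_cancel_right, pow_succ', mul_assoc]
  have h1 := hk (orderOf g)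
  rw [pow_orderOf_eq_one, one_mul, inv_one, mul_one] at h1
  have h2 : orderOf h ∣ orderOf g := orderOf_dvd_of_pow_eq_one (mul_eq_left.1 h1.symm)
  have h3 : orderOf h ∣ 2 ^ 2 := orderOf_dvd_of_pow_eq_one (by
    rw [show (2 : ℕ) ^ 2 = 2 + 2 by norm_num, pow_add, pow_two]; exact h4)
  exact orderOf_eq_one_iff.1 (Nat.eq_one_of_dvd_coprimes
    (Nat.Coprime.pow_left 2 (Nat.coprime_two_left.2 ho)) h3 h2)

/-- A subgroup of a quaternion fixed-point group with more than four elements is everything. -/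
theorem Ctx.top_of_five (c : Ctx W E p) {a : G} (h : Moved W E a) {H : Subgroup G}
    (hH : H ≤ fixOf W a) (h5 : 4 < Nat.card H) : H = fixOf W a := by
  refine Subgroup.eq_of_le_of_card_ge hH ?_
  have hd := Subgroup.card_dvd_of_le hH
  rw [c.card_fix h] at hd ⊢
  have := Nat.le_of_dvd (by norm_num) hd
  rcases (Nat.dvd_prime_pow Nat.prime_two).1 (show Nat.card H ∣ 2 ^ 3 from hd) with ⟨k, hk, he⟩
  interval_cases k <;> simp_all

/-- An element of `E` fixing a non-central element fixes everything. -/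
theorem Ctx.fix_all (c : Ctx W E p) {a g x : G} (h : Moved W E a) (hg : g ∈ E)
    (hx : x ∈ fixOf W a) (hx1 : x ≠ 1) (hxz : x ≠ c.z)
    (hfix : g * x * g⁻¹ = x ∨ g * x * g⁻¹ = x * c.z) {y : G} (hy : y ∈ fixOf W a) :
    g * y * g⁻¹ = y := by
  set H := fixOf W a ⊓ Subgroup.centralizer ({g} : Set G)
  have hxg : g * x * g⁻¹ = x := by
    refine hfix.resolve_right fun e => c.z_ne ?_
    exact eq_one_of_conj_mul (c.odd_orderOf hg) e (c.z_fix hg) (by rw [c.z_sq, one_mul])
  have hmem : ∀ v, v ∈ fixOf W a → g * v * g⁻¹ = v → v ∈ H := fun v hv e =>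
    ⟨hv, Subgroup.mem_centralizer_singleton_iff.2 (mul_inv_eq_iff_eq_mul.1 e).symm⟩
  by_contra hne
  have hlt : H ≠ fixOf W a := fun e => hne (mul_inv_eq_iff_eq_mul.2
    (Subgroup.mem_centralizer_singleton_iff.1 (e.ge hy).2).symm)
  -- `H` has index two
  have hidx : H.relIndex (fixOf W a) = 2 := by
    have h1 := Subgroup.relIndex_mul_relIndex ⊥ H (fixOf W a) bot_le inf_le_left
    rw [Subgroup.relIndex_bot_left, Subgroup.relIndex_bot_left, c.card_fix h] at h1
    have h3 : 3 ≤ Nat.card H := by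
      have hsub : ({1, c.z, x} : Set G) ⊆ (H : Set G) := by
        rintro v (rfl | rfl | rfl)
        exacts [one_mem _, hmem _ (c.z_fixOf h.1) (c.z_fix hg), hmem _ hx hxg]
      refine le_trans (le_of_eq ?_) ((Set.ncard_le_ncard hsub).trans (Nat.card_coe_set_eq _).ge)
      rw [Set.ncard_insert_of_notMem (by simp [c.z_ne.symm, hx1.symm]), Set.ncard_pair hxz.symm]
    have h5 : ¬ 4 < Nat.card H := fun h5 => hlt (c.top_of_five h inf_le_left h5)
    have : Nat.card H = 3 ∨ Nat.card H = 4 := by omega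
    rcases this with e | e <;> rw [e] at h1 <;> omega
  have hdiv : ∀ u v, u ∈ fixOf W a → v ∈ fixOf W a → u ∉ H → v ∉ H → u⁻¹ * v ∈ H := by
    intro u v hu hv hu' hv'
    have := (Subgroup.mul_mem_iff_of_index_two (H := H.subgroupOf (fixOf W a))
      (show (H.subgroupOf (fixOf W a)).index = 2 from hidx)
      (a := ⟨u, hu⟩⁻¹) (b := ⟨v, hv⟩)).2
    simp only [Subgroup.mem_subgroupOf, Subgroup.coe_mul, Subgroup.coe_inv, inv_mem_iff,
      hu', hv'] at this
    exact this trivial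
  have hyH : y ∉ H := fun hh => hne (mul_inv_eq_iff_eq_mul.2
    (Subgroup.mem_centralizer_singleton_iff.1 hh.2).symm)
  have hgyH : g * y * g⁻¹ ∉ H := fun hh => by
    have e := Subgroup.mem_centralizer_singleton_iff.1 hh.2
    exact hne (mul_left_cancel (a := g) (mul_right_cancel (b := g⁻¹) (by
      calc g * (g * y * g⁻¹) * g⁻¹ = (g * y * g⁻¹) * g * g⁻¹ := by rw [← e]
        _ = g * y * g⁻¹ := mul_inv_cancel_right _ _)))
  have hhH := hdiv y _ hy (c.mul_fix h.1 hg hy) hyH hgyH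
  refine hne ?_
  have h4 : (y⁻¹ * (g * y * g⁻¹)) * (y⁻¹ * (g * y * g⁻¹)) *
      ((y⁻¹ * (g * y * g⁻¹)) * (y⁻¹ * (g * y * g⁻¹))) = 1 := by
    rcases c.pow_four h hhH.1 with e | e
    · rw [e, mul_one]
    · rw [e, c.z_sq]
  have := eq_one_of_conj_mul (c.odd_orderOf hg) (mul_inv_cancel_left y (g * y * g⁻¹)).symm
    (mul_inv_eq_iff_eq_mul.2 (Subgroup.mem_centralizer_singleton_iff.1 hhH.2).symm) h4
  exact (inv_mul_eq_one.1 this).symm

theorem Ctx.fixed_all (c : Ctx W E p) {x : G} (hx : x ∈ W) (hfix : ∀ g ∈ E, g * x * g⁻¹ = x)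
    {a : G} (h : Moved W E a) : x = 1 ∨ x = c.z := by
  by_contra hcon
  push Not at hcon
  obtain ⟨ha, ha1, g, hg, y, hy, hne⟩ := h
  exact hne (c.fix_all ⟨ha, ha1, g, hg, y, hy, hne⟩ hg (mem_fixOf.2 ⟨hx, hfix a ha⟩) hcon.1 hcon.2
    (Or.inl (hfix g hg)) hy)

theorem Ctx.exists_moved (c : Ctx W E p) : ∃ a, Moved W E a := by
  by_contra hcon
  push Not at hcon
  obtain ⟨b, hb, hb1⟩ := c.exists_ne
  refine hb1 (c.faithful b hb fun x hx => ?_)
  have hle : W ≤ Subgroup.centralizer ({b} : Set G) :=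
    c.le_of_fix_le le_rfl c.norm fun a ha ha1 y hy =>
      Subgroup.mem_centralizer_singleton_iff.2 (mul_inv_eq_iff_eq_mul.1 (by
        by_contra hne
        exact hcon a ⟨ha, ha1, b, hb, y, hy.2, hne⟩)).symm
  exact mul_inv_eq_iff_eq_mul.2 (Subgroup.mem_centralizer_singleton_iff.1 (hle hx)).symm

/-- The elements of `E` centralizing the fixed points of `a`. -/
abbrev kerOf (W E : Subgroup G) (a : G) : Subgroup G :=
  E ⊓ Subgroup.centralizer (fixOf W a : Set G)

theorem mem_kerOf {a g : G} : g ∈ kerOf W E a ↔ g ∈ E ∧ ∀ y ∈ fixOf W a, g * y * g⁻¹ = y := by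
  rw [Subgroup.mem_inf, Subgroup.mem_centralizer_iff]
  refine and_congr_right fun _ => forall₂_congr fun y _ => ?_
  rw [mul_inv_eq_iff_eq_mul]
  exact eq_comm

theorem Ctx.ker_index (c : Ctx W E p) {a : G} (h : Moved W E a) :
    p = 3 ∧ (kerOf W E a).relIndex E = 3 := by
  obtain ⟨ha, ha1, g₀, hg₀, x, hx, hne⟩ := h
  have h : Moved W E a := ⟨ha, ha1, g₀, hg₀, x, hx, hne⟩
  have hx1 : x ≠ 1 := fun e => hne (by rw [e]; group)
  have hxz : x ≠ c.z := fun e => hne (by rw [e]; exact c.z_fix hg₀)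
  set K := kerOf W E a
  set i := K.relIndex E
  have hi1 : i ≠ 1 := fun e => hne ((mem_kerOf.1 (Subgroup.relIndex_eq_one.1 e hg₀)).2 x hx)
  have hi3 : i * 2 ≤ 6 := by
    classical
    set Z : Set G := {1, c.z}
    have hZ : Z.ncard = 2 := Set.ncard_pair c.z_ne.symm
    let f : (↥E ⧸ K.subgroupOf E) × ↥Z → G := fun q =>
      (q.1.out : G) * x * (q.1.out : G)⁻¹ * q.2
    have key : ∀ {u v : ↥E} {w w' : G}, w ∈ Z → w' ∈ Z →
        (u : G) * x * (u : G)⁻¹ * w = (v : G) * x * (v : G)⁻¹ * w' →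
        (QuotientGroup.mk u : ↥E ⧸ K.subgroupOf E) = QuotientGroup.mk v ∧ w = w' := by
      intro u v w w' hw hw' e
      have hmem : ((u⁻¹ * v : ↥E) : G) ∈ K := by
        refine mem_kerOf.2 ⟨(u⁻¹ * v).2, fun y hy => c.fix_all h (u⁻¹ * v).2 hx hx1 hxz ?_ hy⟩
        have e' : (u : G)⁻¹ * v * x * ((u : G)⁻¹ * v)⁻¹ = x * ((u : G)⁻¹ * (w * w'⁻¹) * u) := by
          calc (u : G)⁻¹ * v * x * ((u : G)⁻¹ * v)⁻¹
              = (u : G)⁻¹ * ((v : G) * x * (v : G)⁻¹ * w') * w'⁻¹ * u := by group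
            _ = _ := by rw [← e]; group
        simp only [Subgroup.coe_mul, Subgroup.coe_inv]
        rw [e']
        have hzu : (u : G)⁻¹ * c.z * u = c.z := by
          have := c.z_fix (inv_mem u.2)
          rwa [inv_inv] at this
        rcases hw with rfl | rfl <;> rcases hw' with rfl | rfl
        · left; group
        · right; rw [inv_eq_of_mul_eq_one_right c.z_sq, one_mul, hzu]
        · right; rw [inv_one, mul_one, hzu]
        · left; group
      refine ⟨QuotientGroup.eq.2 (Subgroup.mem_subgroupOf.2 hmem), ?_⟩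
      have e2 := (mem_kerOf.1 hmem).2 x hx
      simp only [Subgroup.coe_mul, Subgroup.coe_inv] at e2
      have e3 : (u : G) * x * (u : G)⁻¹ = (v : G) * x * (v : G)⁻¹ := by
        conv_lhs => rw [← e2]
        group
      rw [e3] at e
      exact mul_left_cancel e
    have hf : Function.Injective f := by
      rintro ⟨q, w⟩ ⟨q', w'⟩ e
      obtain ⟨e1, e2⟩ := key w.2 w'.2 e
      rw [QuotientGroup.out_eq', QuotientGroup.out_eq'] at e1
      exact Prod.ext e1 (Subtype.ext e2)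
    have hrange : Set.range f ⊆ (fixOf W a : Set G) \ Z := by
      rintro _ ⟨⟨q, w⟩, rfl⟩
      have hu := q.out.2
      set u : G := (q.out : G)
      have hwz : (w : G) = 1 ∨ (w : G) = c.z := w.2
      have hw' : (w : G) ∈ fixOf W a := by
        rcases hwz with e | e <;> rw [e]
        exacts [one_mem _, c.z_fixOf ha]
      refine ⟨mul_mem (c.mul_fix ha hu hx) hw', fun hv => ?_⟩
      change u * x * u⁻¹ * (w : G) ∈ Z at hv
      have hxe : ∀ v : G, u * x * u⁻¹ = v → (v = 1 ∨ v = c.z) → False := by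
        rintro v rfl (e | e)
        · exact hx1 (conj_eq_one_iff.1 e)
        · exact hxz (by
            conv_rhs at e => rw [← c.z_fix hu]
            exact mul_left_cancel (mul_right_cancel e))
      rcases hwz with e | e <;> rcases hv with hv | hv <;> rw [e] at hv
      · exact hxe _ (by simpa using hv) (Or.inl rfl)
      · exact hxe _ (by simpa using hv) (Or.inr rfl)
      · exact hxe c.z (by rw [eq_inv_of_mul_eq_one_left hv, inv_eq_of_mul_eq_one_right c.z_sq])
          (Or.inr rfl)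
      · exact hxe 1 (mul_eq_right.1 hv) (Or.inl rfl)
    have h1 : Nat.card ((↥E ⧸ K.subgroupOf E) × ↥Z) ≤ 6 := by
      rw [← Nat.card_range_of_injective hf, Nat.card_coe_set_eq]
      refine (Set.ncard_le_ncard hrange).trans (le_of_eq ?_)
      rw [Set.ncard_diff, hZ, ← Nat.card_coe_set_eq, SetLike.coe_sort_coe, c.card_fix h]
      rintro v (rfl | rfl)
      exacts [one_mem _, c.z_fixOf ha]
    rw [Nat.card_prod, Nat.card_coe_set_eq, hZ] at h1
    exact h1
  haveI : Fact p.Prime := ⟨c.prime⟩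
  obtain ⟨n, hn⟩ := IsPGroup.iff_card.1 c.hE
  obtain ⟨k, -, hk⟩ := (Nat.dvd_prime_pow c.prime).1
    (hn ▸ (Subgroup.index_dvd_card (K.subgroupOf E) : i ∣ Nat.card E))
  replace hk : i = p ^ k := hk
  have hk0 : k ≠ 0 := fun e => hi1 (by rw [hk, e, pow_zero])
  have hp3 : 3 ≤ p := by have := c.prime.two_le; have := c.odd; omega
  have hpi : p ≤ i := hk ▸ Nat.le_self_pow hk0 p
  exact ⟨by omega, by omega⟩

theorem Ctx.p_three (c : Ctx W E p) : p = 3 := by
  obtain ⟨a, h⟩ := c.exists_moved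
  exact (c.ker_index h).1

theorem Ctx.pow_three (c : Ctx W E p) {g : G} (hg : g ∈ E) : g ^ 3 = 1 := by
  refine c.faithful _ (pow_mem hg 3) ?_
  suffices W ≤ Subgroup.centralizer ({g ^ 3} : Set G) from fun x hx =>
    mul_inv_eq_iff_eq_mul.2 (Subgroup.mem_centralizer_singleton_iff.1 (this hx)).symm
  refine c.le_of_fix_le le_rfl c.norm fun a ha ha1 x hx => ?_
  refine Subgroup.mem_centralizer_singleton_iff.2 (mul_inv_eq_iff_eq_mul.1 ?_).symm
  by_cases h : Moved W E a
  · haveI : (kerOf W E a).subgroupOf E |>.Normal := ⟨fun n hn q => by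
      have : q * n * q⁻¹ = n := Subtype.ext (by
        simp only [Subgroup.coe_mul, Subgroup.coe_inv]
        rw [c.comm q q.2 n n.2, mul_inv_cancel_right])
      rwa [this]⟩
    have h3 := Subgroup.pow_index_mem ((kerOf W E a).subgroupOf E) ⟨g, hg⟩
    rw [show ((kerOf W E a).subgroupOf E).index = 3 from (c.ker_index h).2,
      Subgroup.mem_subgroupOf] at h3
    exact (mem_kerOf.1 (show g ^ 3 ∈ kerOf W E a from h3)).2 x hx.2
  · by_contra hne
    exact h ⟨ha, ha1, g ^ 3, pow_mem hg 3, x, hx.2, hne⟩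

theorem Ctx.card_E (c : Ctx W E p) : Nat.card E = 9 := by
  obtain ⟨a, h⟩ := c.exists_moved
  obtain ⟨hp3, hidx⟩ := c.ker_index h
  haveI : Fact (Nat.Prime 3) := ⟨Nat.prime_three⟩
  set K := kerOf W E a
  have hKE : K ≤ E := inf_le_left
  have h1 := Subgroup.relIndex_mul_relIndex ⊥ K E bot_le hKE
  rw [Subgroup.relIndex_bot_left, Subgroup.relIndex_bot_left, hidx] at h1
  have hmove : ∃ g ∈ E, g ∉ K := by
    by_contra hcon
    push Not at hcon
    rw [Subgroup.relIndex_eq_one.2 (fun g hg => hcon g hg : E ≤ K)] at hidx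
    omega
  have haK : a ∈ K := mem_kerOf.2 ⟨h.1, fun y hy => (mem_fixOf.1 hy).2⟩
  obtain ⟨n, hn⟩ := (IsPGroup.iff_card (p := 3)).1 ((hp3 ▸ c.hE).to_le hKE)
  rcases (by omega : n = 0 ∨ n = 1 ∨ 2 ≤ n) with rfl | rfl | hn2
  · rw [pow_zero] at hn
    exact absurd (Subgroup.mem_bot.1 (Subgroup.card_eq_one.1 hn ▸ haK)) h.2.1
  · rw [hn] at h1; omega
  exfalso
  -- every nontrivial element of `K` has the same fixed points
  have hsame : ∀ k ∈ K, k ≠ 1 → fixOf W k = fixOf W a := by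
    intro k hk hk1
    have hle : fixOf W a ≤ fixOf W k := fun y hy =>
      mem_fixOf.2 ⟨hy.1, (mem_kerOf.1 hk).2 y hy⟩
    obtain ⟨g, hg, hgK⟩ := hmove
    have hkE := hKE hk
    obtain ⟨y, hy, hyne⟩ : ∃ y ∈ fixOf W a, g * y * g⁻¹ ≠ y := by
      by_contra hcon
      push Not at hcon
      exact hgK (mem_kerOf.2 ⟨hg, hcon⟩)
    have hk' : Moved W E k := ⟨hkE, hk1, g, hg, y, hle hy, hyne⟩
    exact (Subgroup.eq_of_le_of_card_ge hle (by rw [c.card_fix h, c.card_fix hk'])).symm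
  have hKnc : ¬ IsCyclic K := by
    intro hcyc
    obtain ⟨g, hg⟩ := hcyc.exists_generator
    have ho := orderOf_eq_card_of_forall_mem_zpowers hg
    have h3 : orderOf g ∣ 3 := orderOf_dvd_of_pow_eq_one (Subtype.ext (c.pow_three (hKE g.2)))
    have h9 : 3 ^ 2 ≤ 3 ^ n := Nat.pow_le_pow_right (by norm_num) hn2
    have := Nat.le_of_dvd (by norm_num) h3
    rw [ho, hn] at this
    norm_num at h9
    omega
  haveI : IsMulCommutative K := ⟨⟨fun u v => Subtype.ext (c.comm u (hKE u.2) v (hKE v.2))⟩⟩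
  have hW : W ≤ fixOf W a := by
    conv_lhs => rw [← Coprime.iSup_centralizer_eq hKnc (hKE.trans c.norm)
      (Nat.Coprime.coprime_dvd_left (Subgroup.card_dvd_of_le hKE) (c.coprime_card le_rfl))]
    exact iSup₂_le fun k hk => le_of_eq (hsame k hk.1 hk.2)
  exact h.2.1 (c.faithful a h.1 fun x hx => (mem_fixOf.1 (hW hx)).2)

theorem Ctx.ker_eq (c : Ctx W E p) {a : G} (h : Moved W E a) :
    kerOf W E a = Subgroup.zpowers a := by
  have hle : Subgroup.zpowers a ≤ kerOf W E a :=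
    Subgroup.zpowers_le.2 (mem_kerOf.2 ⟨h.1, fun y hy => (mem_fixOf.1 hy).2⟩)
  refine (Subgroup.eq_of_le_of_card_ge hle ?_).symm
  have h1 := Subgroup.relIndex_mul_relIndex ⊥ (kerOf W E a) E bot_le inf_le_left
  rw [Subgroup.relIndex_bot_left, Subgroup.relIndex_bot_left, (c.ker_index h).2, c.card_E] at h1
  rw [Nat.card_zpowers, orderOf_eq_prime (hp := ⟨Nat.prime_three⟩) (c.pow_three h.1) h.2.1]
  omega

theorem Ctx.mem_z_or (c : Ctx W E p) {a x : G} (hn : ¬ Moved W E a) (ha : a ∈ E) (ha1 : a ≠ 1)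
    (hx : x ∈ fixOf W a) : x = 1 ∨ x = c.z := by
  obtain ⟨b, hb⟩ := c.exists_moved
  refine c.fixed_all hx.1 (fun g hg => ?_) hb
  by_contra hne
  exact hn ⟨ha, ha1, g, hg, x, hx, hne⟩

/-- Two elements moving the fixed points in an `E`-invariant `V`. -/
theorem Ctx.conj_pair (c : Ctx W E p) {a b x : G} (h : Moved W E a) (hb : b ∈ E)
    (hba : b ∉ Subgroup.zpowers a) (hx : x ∈ fixOf W a) (hx1 : x ≠ 1) (hxz : x ≠ c.z) :
    (∀ y ∈ fixOf W a, y ∈ Subgroup.closure ({x, b * x * b⁻¹, c.z} : Set G)) ∧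
      b * x * b⁻¹ ≠ x ∧ b * x * b⁻¹ ≠ x * c.z := by
  have hbK : b ∉ kerOf W E a := fun hb' => hba (c.ker_eq h ▸ hb')
  have hnot : ¬ (b * x * b⁻¹ = x ∨ b * x * b⁻¹ = x * c.z) := fun hf =>
    hbK (mem_kerOf.2 ⟨hb, fun y hy => c.fix_all h hb hx hx1 hxz hf hy⟩)
  push Not at hnot
  refine ⟨?_, hnot⟩
  set H := Subgroup.closure ({x, b * x * b⁻¹, c.z} : Set G)
  have hH : H ≤ fixOf W a := (Subgroup.closure_le _).2 (by
    rintro v (rfl | rfl | rfl)
    exacts [hx, c.mul_fix h.1 hb hx, c.z_fixOf h.1])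
  have hxH : x ∈ H := Subgroup.subset_closure (Or.inl rfl)
  have hyH : b * x * b⁻¹ ∈ H := Subgroup.subset_closure (Or.inr (Or.inl rfl))
  have hzH : c.z ∈ H := Subgroup.subset_closure (Or.inr (Or.inr rfl))
  have hy1 : b * x * b⁻¹ ≠ 1 := fun e => hx1 (conj_eq_one_iff.1 e)
  have hyz : b * x * b⁻¹ ≠ c.z := fun e => hxz (by
    conv_rhs at e => rw [← c.z_fix hb]
    exact mul_left_cancel (mul_right_cancel e))
  have h5 : 4 < Nat.card H := by
    have hsub : ({1, c.z, x, x * c.z, b * x * b⁻¹} : Set G) ⊆ (H : Set G) := by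
      rintro v (rfl | rfl | rfl | rfl | rfl)
      exacts [one_mem _, hzH, hxH, mul_mem hxH hzH, hyH]
    refine lt_of_lt_of_le ?_ ((Set.ncard_le_ncard hsub).trans (Nat.card_coe_set_eq _).ge)
    have d1 : x * c.z ≠ 1 := fun e => hxz (by
      rw [eq_inv_of_mul_eq_one_left e, inv_eq_of_mul_eq_one_right c.z_sq])
    have d2 : x * c.z ≠ c.z := fun e => hx1 (mul_eq_right.1 e)
    have d3 : x * c.z ≠ x := fun e => c.z_ne (mul_eq_left.1 e)
    rw [Set.ncard_insert_of_notMem (by simp [c.z_ne.symm, hx1.symm, d1.symm, hy1.symm]),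
      Set.ncard_insert_of_notMem (by simp [hxz.symm, d2.symm, hyz.symm]),
      Set.ncard_insert_of_notMem (by simp [d3.symm, hnot.1.symm]), Set.ncard_pair hnot.2.symm]
    omega
  intro y hy
  rw [c.top_of_five h hH h5]; exact hy

/-- `z` as a subgroup. -/
noncomputable def Ctx.zSub (c : Ctx W E p) : Subgroup G := Subgroup.zpowers c.z

theorem Ctx.mem_zSub (c : Ctx W E p) {x : G} : x ∈ c.zSub ↔ x = 1 ∨ x = c.z := by
  constructor
  · rintro ⟨i, rfl⟩
    rcases Int.even_or_odd i with ⟨j, rfl⟩ | ⟨j, rfl⟩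
    · left
      change c.z ^ (j + j) = 1
      rw [← two_mul, zpow_mul, zpow_two, c.z_sq, one_zpow]
    · right
      change c.z ^ (2 * j + 1) = c.z
      rw [zpow_add, zpow_mul, zpow_two, c.z_sq, one_zpow, one_mul, zpow_one]
  · rintro (rfl | rfl)
    exacts [one_mem _, Subgroup.mem_zpowers _]

theorem Ctx.card_zSub (c : Ctx W E p) : Nat.card c.zSub = 2 := by
  rw [Ctx.zSub, Nat.card_zpowers]
  exact orderOf_eq_prime (by rw [pow_two]; exact c.z_sq) c.z_ne

theorem Ctx.inf_cent (c : Ctx W E p) {a : G} (h : Moved W E a) {x : G} (hx : x ∈ fixOf W a)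
    (hc : x ∈ Subgroup.centralizer (fixOf W a : Set G)) : x ∈ c.zSub :=
  c.mem_zSub.2 (c.center_fix h hx fun y hy => (Subgroup.mem_centralizer_iff.1 hc y hy).symm)

theorem Ctx.fix_inter (c : Ctx W E p) {a b : G} (h : Moved W E a) (hb : b ∈ E)
    (hba : b ∉ Subgroup.zpowers a) {x : G} (hx : x ∈ fixOf W a) (hx' : x ∈ fixOf W b) :
    x ∈ c.zSub := by
  rw [c.mem_zSub]
  by_contra hcon
  push Not at hcon
  exact (c.conj_pair h hb hba hx hcon.1 hcon.2).2.1 (mem_fixOf.1 hx').2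

/-- An invariant subgroup bigger than `⟨z⟩` splits off a quaternion fixed-point group. -/
theorem Ctx.exists_split (c : Ctx W E p) {V : Subgroup G} (hVW : V ≤ W)
    (hn : E ≤ Subgroup.normalizer (V : Set G)) (hz : c.z ∈ V) (hne : ¬ V ≤ c.zSub) :
    ∃ a, Moved W E a ∧ fixOf W a ≤ V ∧
      V ≤ fixOf W a ⊔ (V ⊓ Subgroup.centralizer (fixOf W a : Set G)) := by
  haveI : Fact (Nat.Prime 2) := ⟨Nat.prime_two⟩
  set Z := c.zSub
  have hZV : Z ≤ V := Subgroup.zpowers_le.2 hz
  set U : Subgroup G :=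
    { carrier := {u | u ∈ V ∧ ∀ v ∈ V, u * v * u⁻¹ * v⁻¹ ∈ Z}
      one_mem' := ⟨one_mem _, fun v _ => by simpa using one_mem Z⟩
      mul_mem' := fun {a b} ha hb => ⟨mul_mem ha.1 hb.1, fun v hv => by
        have h1 := hb.2 v hv
        have h2 := ha.2 v hv
        have hc : a * (b * v * b⁻¹ * v⁻¹) * a⁻¹ = b * v * b⁻¹ * v⁻¹ := by
          rcases c.mem_zSub.1 h1 with e | e <;> rw [e]
          · group
          · rw [c.z_comm (hVW ha.1), mul_inv_cancel_right]
        have e : a * b * v * (a * b)⁻¹ * v⁻¹ =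
            (a * (b * v * b⁻¹ * v⁻¹) * a⁻¹) * (a * v * a⁻¹ * v⁻¹) := by group
        rw [e, hc]; exact mul_mem h1 h2⟩
      inv_mem' := fun {a} ha => ⟨inv_mem ha.1, fun v hv => by
        have hv' : a⁻¹ * v * a ∈ V := mul_mem (mul_mem (inv_mem ha.1) hv) ha.1
        have h1 := ha.2 _ hv'
        have e : a⁻¹ * v * a⁻¹⁻¹ * v⁻¹ = (a * (a⁻¹ * v * a) * a⁻¹ * (a⁻¹ * v * a)⁻¹)⁻¹ := by group
        rw [e]; exact inv_mem h1⟩ } with hUdef
  have hUn : E ≤ Subgroup.normalizer (U : Set G) := by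
    intro g hg
    rw [Subgroup.mem_normalizer_iff_map_conj_eq]
    refine Subgroup.eq_of_le_of_card_ge ?_
      (Subgroup.card_map_of_injective (f := (MulAut.conj g).toMonoidHom)
        (MulAut.conj g).injective).ge
    rintro _ ⟨u, ⟨hu1, hu2⟩, rfl⟩
    refine ⟨(Subgroup.mem_normalizer_iff.1 (hn hg) u).1 hu1, fun v hv => ?_⟩
    have hv' : g⁻¹ * v * g ∈ V := by
      have := (Subgroup.mem_normalizer_iff.1 (inv_mem (hn hg)) v).1 hv
      rwa [inv_inv] at this
    have h1 := hu2 _ hv'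
    change g * u * g⁻¹ * v * (g * u * g⁻¹)⁻¹ * v⁻¹ ∈ Z
    have e : g * u * g⁻¹ * v * (g * u * g⁻¹)⁻¹ * v⁻¹ =
        g * (u * (g⁻¹ * v * g) * u⁻¹ * (g⁻¹ * v * g)⁻¹) * g⁻¹ := by group
    rw [e]
    rcases c.mem_zSub.1 h1 with e1 | e1 <;> rw [e1]
    · simpa using one_mem Z
    · rw [c.z_fix hg]; exact Subgroup.mem_zpowers _
  obtain ⟨u, hu, huZ⟩ : ∃ u ∈ U, u ∉ Z := by
    haveI hZn : (Z.subgroupOf V).Normal := ⟨fun n hn q => by
      rw [Subgroup.mem_subgroupOf] at hn ⊢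
      simp only [Subgroup.coe_mul, Subgroup.coe_inv]
      rcases c.mem_zSub.1 hn with e | e <;> rw [e]
      · simpa using one_mem Z
      · rw [c.z_comm (hVW q.2), mul_inv_cancel_right]; exact Subgroup.mem_zpowers _⟩
    have hne' : Z.subgroupOf V ≠ ⊤ := fun e => hne (Subgroup.subgroupOf_eq_top.1 e)
    haveI : Nontrivial (↥V ⧸ Z.subgroupOf V) := QuotientGroup.nontrivial_iff.2 hne'
    have hq : IsPGroup 2 (↥V ⧸ Z.subgroupOf V) := (c.hW.to_le hVW).to_quotient _
    obtain ⟨⟨q, hq1⟩, hq2⟩ :=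
      @_root_.exists_ne _ hq.center_nontrivial (1 : Subgroup.center (↥V ⧸ Z.subgroupOf V))
    obtain ⟨u, rfl⟩ := QuotientGroup.mk'_surjective _ q
    refine ⟨u, ⟨u.2, fun v hv => ?_⟩, fun huZ => hq2 (Subtype.ext
      ((QuotientGroup.eq_one_iff u).2 (Subgroup.mem_subgroupOf.2 huZ)))⟩
    have h1 := Subgroup.mem_center_iff.1 hq1 (QuotientGroup.mk' _ ⟨v, hv⟩)
    have h2 : u * ⟨v, hv⟩ * u⁻¹ * (⟨v, hv⟩ : ↥V)⁻¹ ∈ Z.subgroupOf V := by
      rw [← QuotientGroup.eq_one_iff, ← QuotientGroup.mk'_apply]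
      simp only [map_mul, map_inv]
      rw [← h1]
      group
    simpa [Subgroup.mem_subgroupOf] using h2
  obtain ⟨a, ha, ha1, x, hx, hxZ⟩ :
      ∃ a ∈ E, a ≠ 1 ∧ ∃ x ∈ U ⊓ fixOf W a, x ∉ Z := by
    by_contra hcon
    push Not at hcon
    exact huZ (c.le_of_fix_le (V := U) (X := Z) (fun u (hu : u ∈ U) => hVW hu.1) hUn hcon hu)
  have h : Moved W E a := by
    by_contra hn'
    exact hxZ (c.mem_zSub.2 (c.mem_z_or hn' ha ha1 hx.2))
  have hx1 : x ≠ 1 := fun e => hxZ (e ▸ one_mem _)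
  have hxz : x ≠ c.z := fun e => hxZ (e ▸ Subgroup.mem_zpowers _)
  obtain ⟨b, hb, hba⟩ : ∃ b ∈ E, b ∉ Subgroup.zpowers a := by
    obtain ⟨-, -, g, hg, y, hy, hne''⟩ := h
    refine ⟨g, hg, fun hh => hne'' ?_⟩
    rw [← c.ker_eq ⟨ha, ha1, g, hg, y, hy, hne''⟩] at hh
    exact (mem_kerOf.1 hh).2 y hy
  obtain ⟨hgen, hy1, hy2⟩ := c.conj_pair h hb hba hx.2 hx1 hxz
  set y := b * x * b⁻¹
  have hyU : y ∈ U := (Subgroup.mem_normalizer_iff.1 (hUn hb) x).1 hx.1
  have hyQ : y ∈ fixOf W a := c.mul_fix ha hb hx.2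
  have hzc : ∀ v ∈ V, c.z * v * c.z⁻¹ * v⁻¹ = 1 := fun v hv => by
    rw [← c.z_comm (hVW hv)]; group
  have hzU : c.z ∈ U := ⟨hz, fun v hv => by rw [hzc v hv]; exact one_mem _⟩
  have hQU : fixOf W a ≤ U := fun v hv => (Subgroup.closure_le _).2 (by
    rintro w (rfl | rfl | rfl)
    exacts [hx.1, hyU, hzU]) (hgen v hv)
  refine ⟨a, h, fun v hv => (hQU hv).1, fun v hv => ?_⟩
  have hxy : x * y * x⁻¹ = y * c.z := by
    have h1 := hx.1.2 y hyU.1
    rcases c.mem_zSub.1 h1 with e | e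
    · exfalso
      have hcomm : x * y = y * x := mul_inv_eq_iff_eq_mul.1 (mul_inv_eq_one.1 e)
      refine hxZ (c.inf_cent h hx.2 (Subgroup.mem_centralizer_iff.2 fun w hw => ?_))
      have : fixOf W a ≤ Subgroup.centralizer ({x} : Set G) := fun w hw =>
        (Subgroup.closure_le _).2 (by
          rintro t (rfl | rfl | rfl)
          · exact Subgroup.mem_centralizer_singleton_iff.2 rfl
          · exact Subgroup.mem_centralizer_singleton_iff.2 hcomm.symm
          · exact Subgroup.mem_centralizer_singleton_iff.2 (c.z_comm hx.2.1).symm) (hgen w hw)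
      exact Subgroup.mem_centralizer_singleton_iff.1 (this hw)
    · rw [c.z_comm hyQ.1]
      exact mul_inv_eq_iff_eq_mul.1 e
  have hyx : y * x * y⁻¹ = x * c.z := by
    have e1 : x * y = y * c.z * x := mul_inv_eq_iff_eq_mul.1 hxy
    rw [mul_inv_eq_iff_eq_mul]
    calc y * x = (y * c.z * x) * c.z := by
          rw [mul_assoc (y * c.z) x c.z, c.z_comm hx.2.1, ← mul_assoc, mul_assoc y c.z c.z,
            c.z_sq, mul_one]
      _ = x * y * c.z := by rw [e1]
      _ = x * c.z * y := by rw [mul_assoc, c.z_comm hyQ.1, ← mul_assoc]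
  have hcases : ∀ t ∈ U, v * t * v⁻¹ = t ∨ v * t * v⁻¹ = t * c.z := by
    intro t ht
    have h1 : v * t * v⁻¹ * t⁻¹ ∈ Z := by
      have := inv_mem (ht.2 v hv)
      rwa [show (t * v * t⁻¹ * v⁻¹)⁻¹ = v * t * v⁻¹ * t⁻¹ by group] at this
    rcases c.mem_zSub.1 h1 with e | e
    · exact Or.inl (mul_inv_eq_one.1 e)
    · right
      rw [mul_inv_eq_iff_eq_mul.1 e, c.z_comm (hVW ht.1)]
  obtain ⟨q, hq, hq1, hq2⟩ : ∃ q ∈ fixOf W a,
      q * x * q⁻¹ = v * x * v⁻¹ ∧ q * y * q⁻¹ = v * y * v⁻¹ := by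
    rcases hcases x hx.1 with e1 | e1 <;> rcases hcases y hyU with e2 | e2 <;> rw [e1, e2]
    · exact ⟨1, one_mem _, by group, by group⟩
    · exact ⟨x, hx.2, by group, hxy⟩
    · exact ⟨y, hyQ, hyx, by group⟩
    · refine ⟨x * y, mul_mem hx.2 hyQ, ?_, ?_⟩
      · calc x * y * x * (x * y)⁻¹ = x * (y * x * y⁻¹) * x⁻¹ := by group
          _ = x * c.z := by
            rw [hyx]
            conv_lhs => rw [c.z_comm hx.2.1]
            group
      · calc x * y * y * (x * y)⁻¹ = x * y * x⁻¹ := by group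
          _ = _ := hxy
  have hkey : ∀ t, q * t * q⁻¹ = v * t * v⁻¹ →
      q⁻¹ * v ∈ Subgroup.centralizer ({t} : Set G) := fun t e => by
    refine Subgroup.mem_centralizer_singleton_iff.2 (mul_inv_eq_iff_eq_mul.1 ?_)
    calc q⁻¹ * v * t * (q⁻¹ * v)⁻¹ = q⁻¹ * (v * t * v⁻¹) * q := by group
      _ = t := by rw [← e]; group
  have hqv : q⁻¹ * v ∈ V ⊓ Subgroup.centralizer (fixOf W a : Set G) := by
    have hmem : q⁻¹ * v ∈ V := mul_mem (inv_mem (hQU hq).1) hv
    refine ⟨hmem, Subgroup.mem_centralizer_iff.2 fun w hw => ?_⟩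
    have : fixOf W a ≤ Subgroup.centralizer ({q⁻¹ * v} : Set G) := fun w hw =>
      (Subgroup.closure_le _).2 (by
        rintro t (rfl | rfl | rfl)
        · exact Subgroup.mem_centralizer_singleton_iff.2
            (Subgroup.mem_centralizer_singleton_iff.1 (hkey _ hq1)).symm
        · exact Subgroup.mem_centralizer_singleton_iff.2
            (Subgroup.mem_centralizer_singleton_iff.1 (hkey _ hq2)).symm
        · exact Subgroup.mem_centralizer_singleton_iff.2 (c.z_comm (hVW hmem)).symm) (hgen w hw)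
    exact Subgroup.mem_centralizer_singleton_iff.1 (this hw)
  have := Subgroup.mul_mem_sup hq hqv
  rwa [mul_inv_cancel_left] at this

theorem Ctx.zpowers_eq (c : Ctx W E p) {a b : G} (ha : a ∈ E) (ha1 : a ≠ 1) (hb1 : b ≠ 1)
    (hba : b ∈ Subgroup.zpowers a) : Subgroup.zpowers b = Subgroup.zpowers a := by
  haveI : Fact (Nat.Prime 3) := ⟨Nat.prime_three⟩
  have hb : b ∈ E := (Subgroup.zpowers_le.2 ha) hba
  refine Subgroup.eq_of_le_of_card_ge (Subgroup.zpowers_le.2 hba) ?_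
  rw [Nat.card_zpowers, Nat.card_zpowers, orderOf_eq_prime (c.pow_three ha) ha1,
    orderOf_eq_prime (c.pow_three hb) hb1]

theorem fixOf_congr {a b : G} (h : Subgroup.zpowers b = Subgroup.zpowers a) :
    fixOf W b = fixOf W a := by
  have key : ∀ u v : G, u ∈ Subgroup.zpowers v → fixOf W v ≤ fixOf W u := by
    rintro u v ⟨i, rfl⟩ x hx
    refine ⟨hx.1, Subgroup.mem_centralizer_singleton_iff.2 ?_⟩
    exact ((show Commute x v from Subgroup.mem_centralizer_singleton_iff.1 hx.2).zpow_right i).eq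
  exact le_antisymm (key a b (h ▸ Subgroup.mem_zpowers a))
    (key b a (h ▸ Subgroup.mem_zpowers b))

/-- Fixed-point groups of different lines commute, and the order. -/
theorem Ctx.structure_aux (c : Ctx W E p) : ∀ (n : ℕ) (V : Subgroup G), Nat.card V ≤ n → V ≤ W →
    E ≤ Subgroup.normalizer (V : Set G) → c.z ∈ V →
    (∃ k, Nat.card V = 2 * 4 ^ k) ∧
      ∀ a ∈ E, a ≠ 1 → ∀ b ∈ E, b ≠ 1 → b ∉ Subgroup.zpowers a →
        ∀ x ∈ V, x ∈ fixOf W a → ∀ y ∈ V, y ∈ fixOf W b → x * y = y * x := by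
  intro n
  induction n with
  | zero =>
    intro V hV
    exact absurd hV (Nat.not_le.2 Nat.card_pos)
  | succ n ih =>
    intro V hV hVW hn hz
    by_cases hne : V ≤ c.zSub
    · have : V = c.zSub := le_antisymm hne (Subgroup.zpowers_le.2 hz)
      refine ⟨⟨0, by rw [this, c.card_zSub, pow_zero, mul_one]⟩,
        fun a _ _ b _ _ _ x hx _ y hy hyb => ?_⟩
      rcases c.mem_zSub.1 (hne hx) with rfl | rfl
      · simp
      · exact (c.z_comm hyb.1).symm
    obtain ⟨a, h, hQV, hle⟩ := c.exists_split hVW hn hz hne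
    set Q := fixOf W a
    set C := V ⊓ Subgroup.centralizer (Q : Set G)
    have hQn : E ≤ Subgroup.normalizer (Q : Set G) := fun g hg => by
      rw [Subgroup.mem_normalizer_iff_map_conj_eq]
      refine Subgroup.eq_of_le_of_card_ge ?_
        (Subgroup.card_map_of_injective (f := (MulAut.conj g).toMonoidHom)
          (MulAut.conj g).injective).ge
      rintro _ ⟨y, hy, rfl⟩
      exact c.mul_fix h.1 hg hy
    have hCn : E ≤ Subgroup.normalizer (C : Set G) :=
      Modules.normalizes_inf hn (Modules.normalizes_centralizer hQn)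
    have hzC : c.z ∈ C := ⟨hz, Subgroup.mem_centralizer_iff.2 fun y hy => c.z_comm hy.1⟩
    have hV' : V = Q ⊔ C := le_antisymm hle (sup_le hQV inf_le_left)
    have hQC : Q ⊓ C = c.zSub := le_antisymm (fun x hx => c.inf_cent h hx.1 hx.2.2)
      (Subgroup.zpowers_le.2 ⟨c.z_fixOf h.1, hzC⟩)
    have hQnC : Q ≤ Subgroup.normalizer (C : Set G) := fun q hq => by
      rw [Subgroup.mem_normalizer_iff_map_conj_eq]
      refine Subgroup.eq_of_le_of_card_ge ?_
        (Subgroup.card_map_of_injective (f := (MulAut.conj q).toMonoidHom)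
          (MulAut.conj q).injective).ge
      rintro _ ⟨y, hy, rfl⟩
      change q * y * q⁻¹ ∈ C
      rw [Subgroup.mem_centralizer_iff.1 hy.2 q hq, mul_inv_cancel_right]; exact hy
    have hcard := Modules.card_sup_mul_card_inf hQnC
    rw [← hV', hQC, c.card_zSub, c.card_fix h] at hcard
    have hlt : Nat.card C ≤ n := by omega
    obtain ⟨⟨k, hk⟩, hcomm⟩ := ih C hlt (inf_le_left.trans hVW) hCn hzC
    refine ⟨⟨k + 1, by rw [pow_succ]; omega⟩, ?_⟩
    -- fixed points of the other lines centralize `Q`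
    have hother : ∀ b ∈ E, b ∉ Subgroup.zpowers a → ∀ y ∈ V, y ∈ fixOf W b → y ∈ C := by
      intro b hb hba y hy hyb
      have hy' : y ∈ (↑(Q ⊔ C) : Set G) := hle hy
      rw [Subgroup.coe_mul_of_left_le_normalizer_right Q C hQnC] at hy'
      obtain ⟨q, hq, w, hw, rfl⟩ := Set.mem_mul.1 hy'
      have e := (mem_fixOf.1 hyb).2
      have hbq : b * q * b⁻¹ ∈ Q := c.mul_fix h.1 hb hq
      have hbw : b * w * b⁻¹ ∈ C := (Subgroup.mem_normalizer_iff.1 (hCn hb) w).1 hw
      have h1 : q⁻¹ * (b * q * b⁻¹) ∈ c.zSub := by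
        rw [← hQC]
        refine Subgroup.mem_inf.2 ⟨mul_mem (inv_mem hq) hbq, ?_⟩
        have e' : q⁻¹ * (b * q * b⁻¹) = w * (b * w * b⁻¹)⁻¹ := by
          calc q⁻¹ * (b * q * b⁻¹) = q⁻¹ * (b * (q * w) * b⁻¹) * (b * w * b⁻¹)⁻¹ := by group
            _ = _ := by rw [e]; group
        rw [e']; exact mul_mem hw (inv_mem hbw)
      have hqZ : q ∈ c.zSub := by
        rw [c.mem_zSub]
        by_contra hcon
        push Not at hcon
        obtain ⟨-, n1, n2⟩ := c.conj_pair h hb hba hq hcon.1 hcon.2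
        rcases c.mem_zSub.1 h1 with e' | e'
        · exact n1 (inv_mul_eq_one.1 e').symm
        · exact n2 (inv_mul_eq_iff_eq_mul.1 e')
      exact mul_mem (hQC.ge hqZ).2 hw
    intro a' ha' ha1' b' hb' hb1' hne' x hx hxa y hy hyb
    by_cases h1 : a' ∈ Subgroup.zpowers a
    · have e := fixOf_congr (W := W) (c.zpowers_eq h.1 h.2.1 ha1' h1)
      have hb2 : b' ∉ Subgroup.zpowers a := by rwa [← c.zpowers_eq h.1 h.2.1 ha1' h1]
      exact Subgroup.mem_centralizer_iff.1 (hother b' hb' hb2 y hy hyb).2 x (e.le hxa)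
    by_cases h2 : b' ∈ Subgroup.zpowers a
    · have e := fixOf_congr (W := W) (c.zpowers_eq h.1 h.2.1 hb1' h2)
      exact (Subgroup.mem_centralizer_iff.1 (hother a' ha' h1 x hx hxa).2 y (e.le hyb)).symm
    exact hcomm a' ha' ha1' b' hb' hb1' hne' x (hother a' ha' h1 x hx hxa) hxa y
      (hother b' hb' h2 y hy hyb) hyb

/-- The conclusion. -/
theorem Ctx.main (c : Ctx W E p) :
    Nat.card E = 9 ∧ Cfsg.IsExtraspecial 2 ↥W ∧
      (Nat.card W = 2 ^ 5 ∨ Nat.card W = 2 ^ 7 ∨ Nat.card W = 2 ^ 9) ∧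
      ∀ x ∈ W, (∀ g ∈ E, g * x * g⁻¹ = x) ↔ ∀ w ∈ W, w * x = x * w := by
  haveI : Fact (Nat.Prime 2) := ⟨Nat.prime_two⟩
  obtain ⟨⟨k, hk⟩, hcomm⟩ := c.structure_aux (Nat.card W) W le_rfl le_rfl c.norm c.z_mem
  obtain ⟨a, h⟩ := c.exists_moved
  set Z := c.zSub
  have hZW : Z ≤ W := Subgroup.zpowers_le.2 c.z_mem
  have hsq : ∀ e ∈ E, e ≠ 1 → ∀ x ∈ fixOf W e, x * x ∈ Z := by
    intro e he he1 x hx
    by_cases hm : Moved W E e
    · exact c.mem_zSub.2 (c.pow_four hm hx)
    · rcases c.mem_z_or hm he he1 hx with r | r <;> rw [r]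
      · simpa using one_mem Z
      · rw [c.z_sq]; exact one_mem _
  -- commutators of generators lie in `Z`
  have hgen : ∀ e ∈ E, e ≠ 1 → ∀ e' ∈ E, e' ≠ 1 → ∀ x ∈ fixOf W e, ∀ y ∈ fixOf W e',
      x * y * x⁻¹ * y⁻¹ ∈ Z := by
    intro e he he1 e' he' he1' x hx y hy
    by_cases hl : e' ∈ Subgroup.zpowers e
    · have hy' := (fixOf_congr (W := W) (c.zpowers_eq he he1 he1' hl)).le hy
      by_cases hm : Moved W E e
      · have hx4 := hsq e he he1 x hx
        have hy4 := hsq e he he1 y hy'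
        have hxy4 := hsq e he he1 (x * y) (mul_mem hx hy')
        have ec : x * y * x⁻¹ * y⁻¹ = (x * y * (x * y)) * ((y * y)⁻¹ * (y * (x * x) * y⁻¹)⁻¹) := by
          group
        rw [ec]
        refine mul_mem hxy4 (mul_mem (inv_mem hy4) (inv_mem ?_))
        rcases c.mem_zSub.1 hx4 with r | r <;> rw [r]
        · simpa using one_mem Z
        · rw [c.z_comm hy'.1, mul_inv_cancel_right]; exact Subgroup.mem_zpowers _
      · rcases c.mem_z_or hm he he1 hx with rfl | rfl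
        · simpa using one_mem Z
        · rw [← c.z_comm hy.1, mul_inv_cancel_right, mul_inv_cancel]; exact one_mem _
    · rw [hcomm e he he1 e' he' he1' hl x hx.1 hx y hy.1 hy]
      simpa using one_mem Z
  haveI hZn : (Z.subgroupOf W).Normal := ⟨fun n hn q => by
    rw [Subgroup.mem_subgroupOf] at hn ⊢
    simp only [Subgroup.coe_mul, Subgroup.coe_inv]
    rcases c.mem_zSub.1 hn with r | r <;> rw [r]
    · simpa using one_mem Z
    · rw [c.z_comm q.2, mul_inv_cancel_right]; exact Subgroup.mem_zpowers _⟩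
  set π := QuotientGroup.mk' (Z.subgroupOf W)
  have hπ : ∀ u : ↥W, π u = 1 ↔ (u : G) ∈ Z := fun u =>
    (QuotientGroup.eq_one_iff u).trans Subgroup.mem_subgroupOf
  -- `W/Z` is elementary abelian
  have hab : ∀ u v : ↥W, π u * π v = π v * π u := by
    have hle : ∀ v : ↥W, (∀ e ∈ E, e ≠ 1 → ∀ x (hx : x ∈ fixOf W e),
        π ⟨x, hx.1⟩ * π v = π v * π ⟨x, hx.1⟩) → ∀ u : ↥W, π u * π v = π v * π u := by
      intro v hv u
      have hW : W ≤ ((Subgroup.centralizer {π v}).comap π).map W.subtype :=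
        c.le_of_fix_le le_rfl c.norm fun e he he1 x hx => ⟨⟨x, hx.1⟩,
          Subgroup.mem_centralizer_singleton_iff.2 (hv e he he1 x hx.2), rfl⟩
      obtain ⟨u', hu', e⟩ := hW u.2
      rw [show u' = u from Subtype.ext e] at hu'
      exact Subgroup.mem_centralizer_singleton_iff.1 hu'
    intro u v
    refine hle v (fun e he he1 x hx => (hle ⟨x, hx.1⟩ (fun e' he' he1' y hy => ?_) v).symm) u
    have h1 := (hπ (⟨y, hy.1⟩ * ⟨x, hx.1⟩ * (⟨y, hy.1⟩ : ↥W)⁻¹ * (⟨x, hx.1⟩ : ↥W)⁻¹)).2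
      (hgen e' he' he1' e he he1 y hy x hx)
    rw [map_mul, map_mul, map_mul, map_inv, map_inv, mul_inv_eq_one, mul_inv_eq_iff_eq_mul] at h1
    exact h1
  have hexp : ∀ u : ↥W, π u * π u = 1 := by
    let S : Subgroup (↥W ⧸ Z.subgroupOf W) :=
      { carrier := {q | q * q = 1}
        one_mem' := one_mul 1
        mul_mem' := fun {s t} hs ht => by
          obtain ⟨s, rfl⟩ := QuotientGroup.mk'_surjective _ s
          obtain ⟨t, rfl⟩ := QuotientGroup.mk'_surjective _ t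
          change π s * π s = 1 at hs
          change π t * π t = 1 at ht
          change π s * π t * (π s * π t) = 1
          calc π s * π t * (π s * π t) = π s * (π t * π s) * π t := by group
            _ = π s * (π s * π t) * π t := by rw [hab t s]
            _ = (π s * π s) * (π t * π t) := by group
            _ = 1 := by rw [hs, ht, one_mul]
        inv_mem' := fun {s} hs => by
          change s * s = 1 at hs
          change s⁻¹ * s⁻¹ = 1
          rw [← mul_inv_rev, hs, inv_one] }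
    have hW : W ≤ (S.comap π).map W.subtype :=
      c.le_of_fix_le le_rfl c.norm fun e he he1 x hx => ⟨⟨x, hx.1⟩, by
        change π ⟨x, hx.1⟩ * π ⟨x, hx.1⟩ = 1
        rw [← map_mul, hπ]; exact hsq e he he1 x hx.2, rfl⟩
    intro u
    obtain ⟨u', hu', e⟩ := hW u.2
    rw [show u' = u from Subtype.ext e] at hu'
    exact hu'
  -- the centre is `Z`
  have hcenter : ∀ x ∈ W, (∀ w ∈ W, w * x = x * w) → x ∈ Z := by
    intro x hx hxc
    set X := W ⊓ Subgroup.centralizer (W : Set G)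
    have hX : X ≤ Z := by
      refine c.le_of_fix_le inf_le_left
        (Modules.normalizes_inf c.norm (Modules.normalizes_centralizer c.norm))
        fun e he he1 y hy => ?_
      by_cases hm : Moved W E e
      · exact c.inf_cent hm hy.2 (Subgroup.mem_centralizer_iff.2 fun w hw =>
          Subgroup.mem_centralizer_iff.1 hy.1.2 w hw.1)
      · exact c.mem_zSub.2 (c.mem_z_or hm he he1 hy.2)
    exact hX ⟨hx, Subgroup.mem_centralizer_iff.2 hxc⟩
  have hzcenter : ∀ x ∈ Z, ∀ w ∈ W, w * x = x * w := fun x hx w hw => by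
    rcases c.mem_zSub.1 hx with rfl | rfl
    · simp
    · exact c.z_comm hw
  have hCW : ∀ u : ↥W, u ∈ Subgroup.center ↥W ↔ (u : G) ∈ Z := fun u => by
    rw [Subgroup.mem_center_iff]
    exact ⟨fun hu => hcenter u u.2 fun w hw => congrArg Subtype.val (hu ⟨w, hw⟩),
      fun hu w => Subtype.ext (hzcenter u hu w w.2)⟩
  have hk1 : 2 ≤ k := by
    by_contra hcon
    have hle : Nat.card W ≤ Nat.card ↥(fixOf W a) := by
      rw [c.card_fix h, hk]
      interval_cases k <;> norm_num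
    have := Subgroup.eq_of_le_of_card_ge (inf_le_left : fixOf W a ≤ W) hle
    exact h.2.1 (c.faithful a h.1 fun x hx => (mem_fixOf.1 (this.ge hx)).2)
  have hk4 : k ≤ 4 := by
    obtain ⟨b, hb, hba⟩ : ∃ b ∈ E, b ∉ Subgroup.zpowers a := by
      by_contra hcon
      push Not at hcon
      have := Subgroup.card_le_of_le hcon
      rw [c.card_E, Nat.card_zpowers,
        orderOf_eq_prime (hp := ⟨Nat.prime_three⟩) (c.pow_three h.1) h.2.1] at this
      omega
    have hb1 : b ≠ 1 := fun e => hba (e ▸ one_mem _)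
    have hn : ∀ e, fixOf W e ⊔ Z ≤ W := fun e => sup_le inf_le_left hZW
    have hnorm : ∀ {A B : Subgroup G}, A ≤ W → B ≤ W → Z ≤ B →
        A ≤ Subgroup.normalizer (B : Set G) := by
      intro A B hA hB hZB x hx
      rw [Subgroup.mem_normalizer_iff_map_conj_eq]
      refine Subgroup.eq_of_le_of_card_ge ?_
        (Subgroup.card_map_of_injective (f := (MulAut.conj x).toMonoidHom)
          (MulAut.conj x).injective).ge
      rintro _ ⟨y, hy, rfl⟩
      change x * y * x⁻¹ ∈ B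
      have h1 : ((⟨x, hA hx⟩ * ⟨y, hB hy⟩ * (⟨x, hA hx⟩ : ↥W)⁻¹ * (⟨y, hB hy⟩ : ↥W)⁻¹ : ↥W) : G)
          ∈ Z := (hπ _).1 (by
        rw [map_mul, map_mul, map_mul, map_inv, map_inv, hab]; group)
      simpa using mul_mem (hZB h1) hy
    have hstep : ∀ {A B : Subgroup G}, A ≤ W → B ≤ W → Z ≤ A → Z ≤ B →
        Nat.card ↥(A ⊔ B) * 2 ≤ Nat.card A * Nat.card B := by
      intro A B hA hB hZA hZB
      rw [← Modules.card_sup_mul_card_inf (hnorm hA hB hZB)]
      refine Nat.mul_le_mul_left _ ?_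
      rw [← c.card_zSub]
      exact Subgroup.card_le_of_le (le_inf hZA hZB)
    have hsize : ∀ e ∈ E, e ≠ 1 → Nat.card ↥(fixOf W e ⊔ Z) ≤ 8 := by
      intro e he he1
      by_cases hm : Moved W E e
      · have hle : Z ≤ fixOf W e := Subgroup.zpowers_le.2 (c.z_fixOf he)
        rw [sup_eq_left.2 hle, c.card_fix hm]
      · have hle : fixOf W e ≤ Z := fun x hx => c.mem_zSub.2 (c.mem_z_or hm he he1 hx)
        rw [sup_eq_right.2 hle, c.card_zSub]
        norm_num
    set P : G → Subgroup G := fun e => fixOf W e ⊔ Z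
    set X := (P a ⊔ P b) ⊔ (P (a * b) ⊔ P (a * b ^ 2))
    have hlines : ∀ e ∈ E, e ≠ 1 → fixOf W e ≤ X := by
      intro e he he1
      -- every element of `E` is `aⁱ bʲ`
      have hgen9 : ∃ i j : ℕ, i < 3 ∧ j < 3 ∧ e = a ^ i * b ^ j := by
        set φ : Fin 3 × Fin 3 → ↥E := fun q =>
          ⟨a ^ (q.1 : ℕ) * b ^ (q.2 : ℕ), mul_mem (pow_mem h.1 _) (pow_mem hb _)⟩
        have hinj : Function.Injective φ := by
          rintro ⟨i, j⟩ ⟨i', j'⟩ e'
          have e1 : a ^ (i : ℕ) * b ^ (j : ℕ) = a ^ (i' : ℕ) * b ^ (j' : ℕ) := congrArg Subtype.val e'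
          have hob : orderOf b = 3 :=
            orderOf_eq_prime (hp := ⟨Nat.prime_three⟩) (c.pow_three hb) hb1
          have hoa : orderOf a = 3 :=
            orderOf_eq_prime (hp := ⟨Nat.prime_three⟩) (c.pow_three h.1) h.2.1
          have hz0 : b ^ ((j : ℤ) - j') ∈ Subgroup.zpowers a := by
            refine ⟨(i' : ℤ) - i, ?_⟩
            change a ^ ((i' : ℤ) - i) = b ^ ((j : ℤ) - j')
            have e3 : b ^ (j : ℕ) * (b ^ (j' : ℕ))⁻¹ = (a ^ (i : ℕ))⁻¹ * a ^ (i' : ℕ) := by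
              calc b ^ (j : ℕ) * (b ^ (j' : ℕ))⁻¹
                  = (a ^ (i : ℕ))⁻¹ * (a ^ (i : ℕ) * b ^ (j : ℕ)) * (b ^ (j' : ℕ))⁻¹ := by group
                _ = _ := by rw [e1]; group
            rw [zpow_sub, zpow_sub, zpow_natCast, zpow_natCast, zpow_natCast, zpow_natCast, e3]
            exact (((Commute.refl a).pow_pow i i').inv_left).eq.symm
          have hj : j = j' := by
            by_contra hne
            have hne' : b ^ ((j : ℤ) - j') ≠ 1 := by
              rw [Ne, ← orderOf_dvd_iff_zpow_eq_one, hob]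
              intro hd
              exact hne (Fin.ext (by have := j.isLt; have := j'.isLt; omega))
            exact hba ((c.zpowers_eq h.1 h.2.1 hne' hz0).le (by
              rw [c.zpowers_eq hb hb1 hne' ⟨_, rfl⟩]
              exact Subgroup.mem_zpowers b))
          subst hj
          have hi : (i : ℕ) = i' := pow_injOn_Iio_orderOf
            (by rw [hoa]; exact i.isLt) (by rw [hoa]; exact i'.isLt) (mul_right_cancel e1)
          exact Prod.ext (Fin.ext hi) rfl
        have hbij := hinj.bijective_of_nat_card_le (by rw [c.card_E]; simp)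
        obtain ⟨⟨i, j⟩, hij⟩ := hbij.2 ⟨e, he⟩
        exact ⟨i, j, i.isLt, j.isLt, (congrArg Subtype.val hij).symm⟩
      obtain ⟨i, j, hi, hj, rfl⟩ := hgen9
      have hsame : ∀ d ∈ E, d ≠ 1 → a ^ i * b ^ j ∈ Subgroup.zpowers d → P d ≤ X →
          fixOf W (a ^ i * b ^ j) ≤ X := fun d hd hd1 hm hdX => by
        rw [fixOf_congr (c.zpowers_eq hd hd1 he1 hm)]
        exact le_sup_left.trans hdX
      have hcomm' : Commute a b := c.comm a h.1 b hb
      have ha3 := c.pow_three h.1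
      have hb3 := c.pow_three hb
      have hab1 : a * b ≠ 1 := fun r => hba (by
        rw [eq_inv_of_mul_eq_one_right r]; exact inv_mem (Subgroup.mem_zpowers a))
      have hab2 : a * b ^ 2 ≠ 1 := fun r => hba (by
        have : a = b := by
          rw [eq_inv_of_mul_eq_one_left r, inv_eq_iff_mul_eq_one]
          rw [← pow_succ]; exact hb3
        rw [← this]; exact Subgroup.mem_zpowers a)
      interval_cases i <;> interval_cases j
      · simp at he1
      · exact hsame b hb hb1 (by simp) (le_sup_right.trans le_sup_left)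
      · exact hsame b hb hb1 (by simpa using pow_mem (Subgroup.mem_zpowers b) 2)
          (le_sup_right.trans le_sup_left)
      · exact hsame a h.1 h.2.1 (by simp) (le_sup_left.trans le_sup_left)
      · exact hsame (a * b) (mul_mem h.1 hb) hab1 (by simp)
          (le_sup_left.trans le_sup_right)
      · exact hsame (a * b ^ 2) (mul_mem h.1 (pow_mem hb 2)) hab2 (by simp)
          (le_sup_right.trans le_sup_right)
      · exact hsame a h.1 h.2.1 (by simpa using pow_mem (Subgroup.mem_zpowers a) 2)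
          (le_sup_left.trans le_sup_left)
      · refine hsame (a * b ^ 2) (mul_mem h.1 (pow_mem hb 2)) hab2 ?_
          (le_sup_right.trans le_sup_right)
        have := pow_mem (Subgroup.mem_zpowers (a * b ^ 2)) 2
        rwa [(hcomm'.pow_right 2).mul_pow, ← pow_mul,
          show b ^ (2 * 2) = b ^ 1 by rw [show 2 * 2 = 3 + 1 from rfl, pow_add, hb3, one_mul]] at this
      · refine hsame (a * b) (mul_mem h.1 hb) hab1 ?_ (le_sup_left.trans le_sup_right)
        have := pow_mem (Subgroup.mem_zpowers (a * b)) 2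
        rwa [hcomm'.mul_pow] at this
    have hWX : W ≤ X := c.le_of_fix_le le_rfl c.norm fun e he he1 => inf_le_right.trans (hlines e he he1)
    have hPW : ∀ e, P e ≤ W := hn
    have hPZ : ∀ e, Z ≤ P e := fun e => le_sup_right
    have hab1 : a * b ≠ 1 := fun r => hba (by
      rw [eq_inv_of_mul_eq_one_right r]; exact inv_mem (Subgroup.mem_zpowers a))
    have hab2 : a * b ^ 2 ≠ 1 := fun r => hba (by
      have : a = b := by
        rw [eq_inv_of_mul_eq_one_left r, inv_eq_iff_mul_eq_one]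
        rw [← pow_succ]; exact c.pow_three hb
      rw [← this]; exact Subgroup.mem_zpowers a)
    have s1 := hstep (hPW a) (hPW b) (hPZ a) (hPZ b)
    have s2 := hstep (hPW (a * b)) (hPW (a * b ^ 2)) (hPZ _) (hPZ _)
    have s3 := hstep (sup_le (hPW a) (hPW b)) (sup_le (hPW (a * b)) (hPW (a * b ^ 2)))
      (le_trans (hPZ a) le_sup_left) (le_trans (hPZ (a * b)) le_sup_left)
    have b1 := Nat.mul_le_mul (hsize a h.1 h.2.1) (hsize b hb hb1)
    have b2 := Nat.mul_le_mul (hsize _ (mul_mem h.1 hb) hab1)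
      (hsize _ (mul_mem h.1 (pow_mem hb 2)) hab2)
    have hWle : Nat.card W ≤ Nat.card ↥((P a ⊔ P b) ⊔ (P (a * b) ⊔ P (a * b ^ 2))) :=
      Subgroup.card_le_of_le hWX
    replace b1 : Nat.card ↥(P a) * Nat.card ↥(P b) ≤ 8 * 8 := b1
    replace b2 : Nat.card ↥(P (a * b)) * Nat.card ↥(P (a * b ^ 2)) ≤ 8 * 8 := b2
    have t1 : Nat.card ↥(P a ⊔ P b) ≤ 32 := by omega
    have t2 : Nat.card ↥(P (a * b) ⊔ P (a * b ^ 2)) ≤ 32 := by omega
    have t3 := Nat.mul_le_mul t1 t2
    by_contra hcon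
    have h5 := Nat.pow_le_pow_right (show 0 < 4 by norm_num) (not_le.1 hcon : 5 ≤ k)
    have : Nat.card W ≤ 512 := by omega
    norm_num at h5
    omega
  refine ⟨c.card_E, ?_, ?_, fun x hx => ⟨fun hfix => ?_, fun hxc g hg => ?_⟩⟩
  · refine PGroup.isExtraspecial_of_center c.hW ?_ ?_ ?_ ?_
    · rw [show Subgroup.center ↥W = Z.subgroupOf W from Subgroup.ext fun u =>
        (hCW u).trans Subgroup.mem_subgroupOf.symm,
        Nat.card_congr (Subgroup.subgroupOfEquivOfLe hZW).toEquiv, c.card_zSub]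
    · intro hcm
      have : W ≤ Z := fun w hw => hcenter w hw fun v hv =>
        congrArg Subtype.val (hcm.is_comm.comm (⟨v, hv⟩ : ↥W) ⟨w, hw⟩)
      have := Subgroup.card_le_of_le this
      rw [hk, c.card_zSub] at this
      have h4 := Nat.pow_le_pow_right (show 0 < 4 by norm_num) hk1
      norm_num at h4
      omega
    · rw [commutator_def, Subgroup.commutator_le]
      intro u _ v _
      rw [hCW, ← hπ, map_commutatorElement]
      exact commutatorElement_eq_one_iff_mul_comm.2 (hab u v)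
    · intro u
      rw [hCW, ← hπ, map_pow, pow_two, hexp]
  · rw [hk]
    interval_cases k <;> norm_num
  · exact hzcenter x (c.mem_zSub.2 (c.fixed_all hx hfix h))
  · rcases c.mem_zSub.1 (hcenter x hx hxc) with rfl | rfl
    · group
    · exact c.z_fix hg

end Cfsg.Agent.LocalEven.QuatFixed
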